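import Cfsg.Agent.RegGen.TV

/-!
Transvections of SL with a fixed centre, transitivity facts, and the number of subspaces in one orbit.
-/

set_option autoImplicit false

namespace Cfsg.Agent.MinIndex

open Matrix Cfsg.Agent.RegGen

variable {ι F : Type*} [Fintype ι] [DecidableEq ι] [Field F]

local notation "SLι" => SpecialLinearGroup ι F

/-- The transvection `x ↦ x + (φ ⬝ x) • y`. -/
def X (y φ : ι → F) (h : φ ⬝ᵥ y = 0) : SLι :=
  ⟨1 + Matrix.vecMulVec y φ, by
    rw [Matrix.vecMulVec_eq Unit, Matrix.det_one_add_replicateCol_mul_replicateRow, h, add_zero]⟩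

theorem X_mulVec {y φ : ι → F} (h : φ ⬝ᵥ y = 0) (x : ι → F) :
    (X y φ h : Matrix ι ι F) *ᵥ x = x + (φ ⬝ᵥ x) • y := by
  show (1 + Matrix.vecMulVec y φ) *ᵥ x = _
  rw [Matrix.add_mulVec, Matrix.one_mulVec, Matrix.vecMulVec_mulVec]
  simp [op_smul_eq_smul]

theorem X_ext {y y' φ φ' : ι → F} (h : φ ⬝ᵥ y = 0) (h' : φ' ⬝ᵥ y' = 0) (e1 : y = y') (e2 : φ = φ') :
    X y φ h = X y' φ' h' := by
  subst e1 e2; rfl

theorem tv_iff {H : Subgroup SLι} {y φ : ι → F} (h : φ ⬝ᵥ y = 0) : TV H y φ ↔ X y φ h ∈ H := by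
  constructor
  · rintro ⟨-, g, hg, hx⟩
    rwa [Classical.sl_ext_mulVec (A := X y φ h) (B := g) fun v => by rw [X_mulVec, hx]]
  · exact fun hg => ⟨h, _, hg, X_mulVec h⟩

theorem X_mul {y φ φ' : ι → F} (h : φ ⬝ᵥ y = 0) (h' : φ' ⬝ᵥ y = 0) :
    X y φ h * X y φ' h' = X y (φ + φ') (by rw [add_dotProduct, h, h', add_zero]) := by
  refine Classical.sl_ext_mulVec fun v => ?_
  rw [Matrix.SpecialLinearGroup.coe_mul, ← mulVec_mulVec, X_mulVec, X_mulVec, X_mulVec, dotProduct_add,
    dotProduct_smul, h, smul_zero, add_zero, add_dotProduct, add_smul, add_assoc, add_comm ((φ' ⬝ᵥ v) • y)]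

theorem X_mul_left {y y' φ : ι → F} (h : φ ⬝ᵥ y = 0) (h' : φ ⬝ᵥ y' = 0) :
    X y φ h * X y' φ h' = X (y + y') φ (by rw [dotProduct_add, h, h', add_zero]) := by
  refine Classical.sl_ext_mulVec fun v => ?_
  rw [Matrix.SpecialLinearGroup.coe_mul, ← mulVec_mulVec, X_mulVec, X_mulVec, X_mulVec, dotProduct_add,
    dotProduct_smul, h', smul_zero, add_zero, smul_add, add_assoc, add_comm ((φ ⬝ᵥ v) • y')]

theorem conj_X (g : SLι) {y φ : ι → F} (h : φ ⬝ᵥ y = 0) :
    g * X y φ h * g⁻¹ = X (g.1 *ᵥ y) (φ ᵥ* (g⁻¹ : SLι).1) (by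
      rw [← dotProduct_mulVec, mulVec_mulVec, ← Matrix.SpecialLinearGroup.coe_mul, inv_mul_cancel,
        Matrix.SpecialLinearGroup.coe_one, one_mulVec, h]) := by
  refine Classical.sl_ext_mulVec fun x => ?_
  rw [Matrix.SpecialLinearGroup.coe_mul, Matrix.SpecialLinearGroup.coe_mul, ← mulVec_mulVec, ← mulVec_mulVec,
    X_mulVec, X_mulVec, mulVec_add, mulVec_smul, mulVec_mulVec, ← Matrix.SpecialLinearGroup.coe_mul,
    mul_inv_cancel, Matrix.SpecialLinearGroup.coe_one, one_mulVec, dotProduct_mulVec]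

theorem X_inj {y φ φ' : ι → F} (hy : y ≠ 0) (h : φ ⬝ᵥ y = 0) (h' : φ' ⬝ᵥ y = 0) (e : X y φ h = X y φ' h') :
    φ = φ' := by
  funext i
  have h1 := congrArg (fun g : SLι => (g : Matrix ι ι F) *ᵥ Pi.single i 1) e
  simp only [X_mulVec, dotProduct_single_one, add_right_inj] at h1
  exact smul_left_injective F hy h1

omit [Fintype ι] [DecidableEq ι] in
/-- Two proper subspaces do not cover. -/
theorem exists_notMem_pair {P P' : Submodule F (ι → F)} (h : P ≠ ⊤) (h' : P' ≠ ⊤) :
    ∃ u, u ∉ P ∧ u ∉ P' := by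
  by_contra hc
  push Not at hc
  obtain ⟨a, ha⟩ := SetLike.exists_of_lt (lt_top_iff_ne_top.2 h)
  obtain ⟨b, hb⟩ := SetLike.exists_of_lt (lt_top_iff_ne_top.2 h')
  have ha' := hc a ha.2
  have hb' : b ∈ P := by
    by_contra hb'
    exact hb.2 (hc b hb')
  rcases em (a + b ∈ P) with h1 | h1
  · exact ha.2 (by simpa using sub_mem h1 hb')
  · exact hb.2 (by simpa using sub_mem (hc _ h1) ha')

theorem exists_functional (P : Submodule F (ι → F)) {w : ι → F} (hw : w ∉ P) :
    ∃ φ : ι → F, (∀ p ∈ P, φ ⬝ᵥ p = 0) ∧ φ ⬝ᵥ w = 1 := by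
  obtain ⟨f, hf1, hf2⟩ := Submodule.exists_dual_map_eq_bot_of_notMem hw inferInstance
  let g : Module.Dual F (ι → F) := (f w)⁻¹ • f
  have key : ∀ p, (dotProductEquiv F ι).symm g ⬝ᵥ p = g p := fun p => by
    conv_rhs => rw [← (dotProductEquiv F ι).apply_symm_apply g]
    rfl
  refine ⟨(dotProductEquiv F ι).symm g, fun p hp => ?_, ?_⟩
  · rw [key]
    have : f p ∈ P.map f := Submodule.mem_map_of_mem hp
    rw [hf2, Submodule.mem_bot] at this
    simp [g, this]
  · rw [key]
    simp [g, inv_mul_cancel₀ hf1]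

theorem span_pair_ne_top (hn : 3 ≤ Fintype.card ι) (a b : ι → F) : Submodule.span F ({a, b} : Set (ι → F)) ≠ ⊤ := by
  classical
  intro h
  have h1 := finrank_span_finset_le_card (R := F) ({a, b} : Finset (ι → F))
  rw [Set.finrank, Finset.coe_insert, Finset.coe_singleton, h, finrank_top, Module.finrank_fintype_fun_eq_card] at h1
  have := (Finset.card_insert_le a ({b} : Finset (ι → F))).trans (by rw [Finset.card_singleton])
  omega

theorem move_step {y w w' : ι → F} (hw : w ∉ Submodule.span F ({y} : Set (ι → F)))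
    (h : w' - w ∉ Submodule.span F ({y, w} : Set (ι → F))) :
    ∃ g : SLι, g.1 *ᵥ y = y ∧ g.1 *ᵥ w = w' := by
  have hw2 : w ∉ Submodule.span F ({y, w' - w} : Set (ι → F)) := by
    intro hc
    obtain ⟨a, b, e⟩ := Submodule.mem_span_pair.1 hc
    rcases eq_or_ne b 0 with rfl | hb
    · exact hw (Submodule.mem_span_singleton.2 ⟨a, by simpa using e⟩)
    · apply h
      refine Submodule.mem_span_pair.2 ⟨-(b⁻¹ * a), b⁻¹, ?_⟩
      have e2 : b • (w' - w) = w - a • y := by linear_combination (norm := module) e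
      calc -(b⁻¹ * a) • y + b⁻¹ • w = b⁻¹ • (w - a • y) := by module
        _ = b⁻¹ • b • (w' - w) := by rw [e2]
        _ = w' - w := by rw [smul_smul, inv_mul_cancel₀ hb, one_smul]
  obtain ⟨φ, h1, h2⟩ := exists_functional _ hw2
  refine ⟨X (w' - w) φ (h1 _ (Submodule.subset_span (by simp))), ?_, ?_⟩
  · rw [X_mulVec, h1 y (Submodule.subset_span (by simp)), zero_smul, add_zero]
  · rw [X_mulVec, h2, one_smul, add_sub_cancel]

/-- The stabiliser of a vector is transitive off its line. -/
theorem exists_move (hn : 3 ≤ Fintype.card ι) {y w w' : ι → F} (hw : w ∉ Submodule.span F ({y} : Set (ι → F)))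
    (hw' : w' ∉ Submodule.span F ({y} : Set (ι → F))) : ∃ g : SLι, g.1 *ᵥ y = y ∧ g.1 *ᵥ w = w' := by
  obtain ⟨u, hu, hu'⟩ := exists_notMem_pair (span_pair_ne_top hn y w) (span_pair_ne_top hn y w')
  have hu1 : u ∉ Submodule.span F ({y} : Set (ι → F)) := fun h =>
    hu (Submodule.span_mono (by simp) h)
  obtain ⟨g, hg1, hg2⟩ := move_step hw (w' := u) fun h => hu (by
    have := add_mem h (Submodule.subset_span (show w ∈ ({y, w} : Set (ι → F)) by simp))
    rwa [sub_add_cancel] at this)
  obtain ⟨k, hk1, hk2⟩ := move_step hw' (w' := u) fun h => hu' (by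
    have := add_mem h (Submodule.subset_span (show w' ∈ ({y, w'} : Set (ι → F)) by simp))
    rwa [sub_add_cancel] at this)
  refine ⟨k⁻¹ * g, ?_, ?_⟩
  · rw [Matrix.SpecialLinearGroup.coe_mul, ← mulVec_mulVec, hg1]
    conv_lhs => rw [← hk1]
    rw [mulVec_mulVec, ← Matrix.SpecialLinearGroup.coe_mul, inv_mul_cancel, Matrix.SpecialLinearGroup.coe_one,
      one_mulVec]
  · rw [Matrix.SpecialLinearGroup.coe_mul, ← mulVec_mulVec, hg2, ← hk2, mulVec_mulVec,
      ← Matrix.SpecialLinearGroup.coe_mul, inv_mul_cancel, Matrix.SpecialLinearGroup.coe_one, one_mulVec]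

theorem exists_move_vec (hn : 3 ≤ Fintype.card ι) {w w' : ι → F} (hw : w ≠ 0) (hw' : w' ≠ 0) :
    ∃ g : SLι, g.1 *ᵥ w = w' := by
  obtain ⟨g, -, hg⟩ := exists_move (y := 0) hn (w := w) (w' := w') (by simpa using hw) (by simpa using hw')
  exact ⟨g, hg⟩

/-! ### Orbits of subspaces -/

/-- The image of a subspace. -/
def img (C : Submodule F (ι → F)) (g : SLι) : Submodule F (ι → F) := C.map (Matrix.mulVecLin g.1)

theorem img_mul (C : Submodule F (ι → F)) (g h : SLι) : img C (g * h) = img (img C h) g := by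
  rw [img, img, img, Matrix.SpecialLinearGroup.coe_mul, Matrix.mulVecLin_mul, Submodule.map_comp]

theorem card_points [Finite F] :
    Nat.card (Projectivization F (ι → F)) = ∑ i ∈ Finset.range (Fintype.card ι), Nat.card F ^ i :=
  Projectivization.card_of_finrank F (ι → F) (Module.finrank_fintype_fun_eq_card F)

theorem card_range_img_le (C : Submodule F (ι → F)) (K : Subgroup SLι) [Finite F]
    (hK : ∀ k ∈ K, img C k = C) : Nat.card (Set.range (img C)) ≤ K.index := by
  classical
  have hwd : ∀ a b : SLι, (QuotientGroup.leftRel K) a b → img C a = img C b := by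
    intro a b hab
    rw [QuotientGroup.leftRel_apply] at hab
    conv_rhs => rw [show b = a * (a⁻¹ * b) by group, img_mul, hK _ hab]
  refine Nat.card_le_card_of_surjective
    (fun c : SLι ⧸ K => (⟨Quotient.liftOn' c (img C) hwd, by
      induction c using QuotientGroup.induction_on with
      | H a => exact ⟨a, rfl⟩⟩ : Set.range (img C))) ?_
  rintro ⟨_, a, rfl⟩
  exact ⟨(a : SLι ⧸ K), rfl⟩

theorem mem_img {C : Submodule F (ι → F)} {g : SLι} {x : ι → F} :
    x ∈ img C g ↔ ∃ c ∈ C, g.1 *ᵥ c = x := by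
  simp [img, Submodule.mem_map]

theorem img_line (v : ι → F) (g : SLι) :
    img (Submodule.span F {v}) g = Submodule.span F {g.1 *ᵥ v} := by
  rw [img, Submodule.map_span, Set.image_singleton, Matrix.mulVecLin_apply]

/-- An orbit of proper nonzero subspaces is at least as large as the set of points. -/
theorem card_points_le_orbit [Finite F] (hn : 3 ≤ Fintype.card ι) (C : Submodule F (ι → F)) (h0 : C ≠ ⊥)
    (h1 : C ≠ ⊤) :
    (∑ i ∈ Finset.range (Fintype.card ι), Nat.card F ^ i) ≤ Nat.card (Set.range (img C)) := by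
  classical
  have : Finite (Submodule F (ι → F)) :=
    Finite.of_injective (fun P : Submodule F (ι → F) => (P : Set (ι → F))) SetLike.coe_injective
  set n := Fintype.card ι with hndef
  set e := Module.finrank F C with he
  have he1 : 1 ≤ e := Submodule.one_le_finrank_iff.2 h0
  have he2 : e < n := by
    have := Submodule.finrank_lt h1
    rwa [Module.finrank_fintype_fun_eq_card] at this
  rw [← card_points]
  by_cases hc1 : e = 1
  · obtain ⟨v, hv, hv0⟩ := Submodule.exists_mem_ne_zero_of_ne_bot h0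
    have hC : C = Submodule.span F {v} := by
      refine (Submodule.eq_of_le_of_finrank_eq ((Submodule.span_singleton_le_iff_mem _ _).2 hv) ?_).symm
      rw [finrank_span_singleton hv0, ← he, hc1]
    have hmem : ∀ p : Projectivization F (ι → F), p.submodule ∈ Set.range (img C) := by
      intro p
      obtain ⟨g, hg⟩ := exists_move_vec hn hv0 p.rep_nonzero
      exact ⟨g, by rw [hC, img_line, hg, Projectivization.submodule_eq]⟩
    exact Nat.card_le_card_of_injective (fun p => (⟨p.submodule, hmem p⟩ : Set.range (img C)))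
      fun p p' h => Projectivization.submodule_injective (congrArg Subtype.val h)
  by_cases hc2 : e + 1 = n
  · obtain ⟨w, -, hw⟩ := SetLike.exists_of_lt (lt_top_iff_ne_top.2 h1)
    obtain ⟨φ, hφ, hφw⟩ := exists_functional C hw
    have hφ0 : φ ≠ 0 := fun h => by simp [h] at hφw
    have hC : ∀ x, x ∈ C ↔ φ ⬝ᵥ x = 0 := by
      have hK : C = LinearMap.ker (dotProductEquiv F ι φ) := by
        refine Submodule.eq_of_le_of_finrank_eq (fun x hx => hφ x hx) ?_
        have h2 := LinearMap.finrank_range_add_finrank_ker (dotProductEquiv F ι φ)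
        have h3 : LinearMap.range (dotProductEquiv F ι φ) = ⊤ := by
          rw [eq_top_iff]
          intro c _
          exact ⟨c • w, by simp [dotProductEquiv, hφw]⟩
        rw [h3, finrank_top, Module.finrank_self, Module.finrank_fintype_fun_eq_card] at h2
        omega
      intro x
      rw [hK]
      simp [dotProductEquiv]
    choose g hg using fun p : Projectivization F (ι → F) => exists_move_vec hn hφ0 p.rep_nonzero
    refine Nat.card_le_card_of_injective
      (fun p => (⟨img C ((g p).transpose)⁻¹, _, rfl⟩ : Set.range (img C))) fun p p' h => ?_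
    have h' : img C ((g p).transpose)⁻¹ = img C ((g p').transpose)⁻¹ := congrArg Subtype.val h
    have hker : ∀ (p : Projectivization F (ι → F)) (x : ι → F),
        x ∈ img C ((g p).transpose)⁻¹ ↔ p.rep ⬝ᵥ x = 0 := by
      intro p x
      rw [mem_img]
      have key : ∀ c : ι → F, p.rep ⬝ᵥ c = φ ⬝ᵥ ((g p).transpose.1 *ᵥ c) := fun c => by
        rw [dotProduct_mulVec, Matrix.SpecialLinearGroup.coe_transpose, vecMul_transpose, hg p]
      constructor
      · rintro ⟨c, hc, rfl⟩
        rw [key, mulVec_mulVec, ← Matrix.SpecialLinearGroup.coe_mul, mul_inv_cancel,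
          Matrix.SpecialLinearGroup.coe_one, one_mulVec]
        exact (hC c).1 hc
      · intro hx
        refine ⟨_, (hC _).2 ((key x).symm.trans hx), ?_⟩
        rw [mulVec_mulVec, ← Matrix.SpecialLinearGroup.coe_mul, inv_mul_cancel, Matrix.SpecialLinearGroup.coe_one,
          one_mulVec]
    have hprop : ∀ a b : ι → F, a ≠ 0 → (∀ x, a ⬝ᵥ x = 0 → b ⬝ᵥ x = 0) → ∃ c : F, b = c • a := by
      intro a b ha hab
      obtain ⟨i, hi⟩ := Function.ne_iff.1 ha
      refine ⟨b i / a i, funext fun j => ?_⟩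
      have := hab (Pi.single j (a i) - Pi.single i (a j)) (by simp [dotProduct_sub, mul_comm])
      simp [dotProduct_sub] at this
      field_simp [show a i ≠ 0 from hi]
      simp only [Pi.smul_apply, smul_eq_mul]
      field_simp [show a i ≠ 0 from hi]
      linear_combination this
    obtain ⟨c, hc⟩ := hprop p.rep p'.rep p.rep_nonzero fun x hx => (hker p' x).1 (h' ▸ (hker p x).2 hx)
    rw [← p.mk_rep, ← p'.mk_rep]
    symm
    rw [Projectivization.mk_eq_mk_iff']
    exact ⟨c, hc.symm⟩
  -- graphs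
  obtain ⟨D, hD⟩ := Submodule.exists_isCompl C
  have hfD : e + Module.finrank F D = n := by
    rw [Submodule.finrank_add_eq_of_isCompl hD, Module.finrank_fintype_fun_eq_card]
  let f : (C →ₗ[F] D) → SLι := fun l =>
    ⟨LinearMap.toMatrix' (LinearMap.id + (D.subtype ∘ₗ l ∘ₗ C.projectionOnto D hD)), by
      have hP : (LinearMap.toMatrix' (C.subtype ∘ₗ C.projectionOnto D hD)) *
          LinearMap.toMatrix' (D.subtype ∘ₗ l ∘ₗ C.projectionOnto D hD) = 0 := by
        rw [← LinearMap.toMatrix'_comp, show (C.subtype ∘ₗ C.projectionOnto D hD) ∘ₗ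
          (D.subtype ∘ₗ l ∘ₗ C.projectionOnto D hD) = 0 from LinearMap.ext fun x => by
            simp [Submodule.projectionOnto_apply_right], map_zero]
      have hT : D.subtype ∘ₗ l ∘ₗ C.projectionOnto D hD =
          (D.subtype ∘ₗ l ∘ₗ C.projectionOnto D hD) ∘ₗ (C.subtype ∘ₗ C.projectionOnto D hD) :=
        LinearMap.ext fun x => by simp [Submodule.projectionOnto_projection]
      rw [map_add, LinearMap.toMatrix'_id, hT, LinearMap.toMatrix'_comp, Matrix.det_one_add_mul_comm, hP, add_zero,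
        Matrix.det_one]⟩
  have hf : ∀ (l : C →ₗ[F] D) (c : C), (f l).1 *ᵥ (c : ι → F) = (c : ι → F) + (l c : ι → F) := by
    intro l c
    show LinearMap.toMatrix' _ *ᵥ (c : ι → F) = _
    rw [LinearMap.toMatrix'_mulVec]
    simp [Submodule.projectionOnto_apply_left hD c]
  have hinj : Function.Injective fun l : C →ₗ[F] D => (⟨img C (f l), _, rfl⟩ : Set.range (img C)) := by
    intro l l' h
    have h' : img C (f l) = img C (f l') := congrArg Subtype.val h
    refine LinearMap.ext fun c => ?_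
    have hm : (c : ι → F) + (l c : ι → F) ∈ img C (f l') := by
      rw [← h', mem_img]; exact ⟨c, c.2, hf l c⟩
    obtain ⟨c', hc', e'⟩ := mem_img.1 hm
    rw [hf l' ⟨c', hc'⟩] at e'
    have hz : c' - (c : ι → F) = (l c : ι → F) - (l' ⟨c', hc'⟩ : ι → F) := by
      linear_combination (norm := module) e'
    have h0 : c' - (c : ι → F) = 0 :=
      Submodule.disjoint_def.1 hD.disjoint _ (sub_mem hc' c.2) (hz ▸ sub_mem (l c).2 (l' ⟨c', hc'⟩).2)
    rw [h0, eq_comm, sub_eq_zero] at hz
    rw [sub_eq_zero] at h0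
    subst h0
    exact Subtype.ext hz
  refine le_trans ?_ (Nat.card_le_card_of_injective _ hinj)
  rw [card_points, Module.natCard_eq_pow_finrank (K := F) (V := C →ₗ[F] D), Module.finrank_linearMap]
  calc (∑ i ∈ Finset.range n, Nat.card F ^ i) ≤ Nat.card F ^ n := by
        exact (Nat.geomSum_lt Finite.one_lt_card fun k hk => Finset.mem_range.1 hk).le
    _ ≤ _ := Nat.pow_le_pow_right Nat.card_pos (by
        rw [← hfD]
        have h2 : 2 ≤ e := by omega
        have h3 : 2 ≤ Module.finrank F D := by omega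
        nlinarith)

end Cfsg.Agent.MinIndex
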