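import Cfsg.Agent.MinIndex.Orbits

/-!
The minimal index of a proper subgroup of SL_n, n ≥ 3.
-/

set_option autoImplicit false

namespace Cfsg.Agent.MinIndex

open Matrix Cfsg.Agent.RegGen

variable {ι F : Type*} [Fintype ι] [DecidableEq ι] [Field F]

local notation "SLι" => SpecialLinearGroup ι F

omit [Fintype ι] in
theorem single_one_ne_zero (i : ι) : (Pi.single i (1 : F) : ι → F) ≠ 0 := fun h => by
  simpa using congrFun h i

/-- The vectors all of whose transvections lie in a subgroup form a subspace. -/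
def ptSub (K : Subgroup SLι) : Submodule F (ι → F) where
  carrier := {v | Pt K v}
  zero_mem' := fun φ _ => TV.zero_left φ
  smul_mem' := fun c _ hv => Pt.smul hv c
  add_mem' := by
    intro v w hv hw
    by_cases hvw : v ∈ Submodule.span F ({w} : Set (ι → F))
    · obtain ⟨c, rfl⟩ := Submodule.mem_span_singleton.1 hvw
      have : c • w + w = (c + 1) • w := by rw [add_smul, one_smul]
      show Pt K (c • w + w)
      rw [this]
      exact Pt.smul hw _
    · obtain ⟨φ, h1, h2⟩ := exists_functional _ hvw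
      have hφw := h1 w (Submodule.subset_span rfl)
      obtain ⟨-, g, hg, hx⟩ := hw φ hφw
      have := Pt.map hv hg
      rwa [hx, h2, one_smul] at this

theorem two_le_sum_pow {q m : ℕ} (hq : 0 < q) (hm : 2 ≤ m) : 2 ≤ ∑ i ∈ Finset.range m, q ^ i := by
  calc 2 = ∑ _i ∈ Finset.range 2, 1 := by simp
    _ ≤ ∑ i ∈ Finset.range 2, q ^ i := Finset.sum_le_sum fun i _ => Nat.one_le_pow _ _ hq
    _ ≤ _ := Finset.sum_le_sum_of_subset (fun i hi => by simp only [Finset.mem_range] at hi ⊢; omega)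

variable [Finite F]

/-- No system of planes through the points. -/
theorem no_planes (hn : 3 ≤ Fintype.card ι) (K : Subgroup SLι)
    (h : ∀ y : ι → F, y ≠ 0 → ∃ w, w ∉ Submodule.span F ({y} : Set (ι → F)) ∧
      ∀ φ, φ ⬝ᵥ y = 0 → (TV K y φ ↔ φ ⬝ᵥ w = 0)) : False := by
  choose w hw hiff using h
  let L : ∀ y : ι → F, y ≠ 0 → Submodule F (ι → F) := fun y hy => Submodule.span F {y, w y hy}
  have hmem : ∀ y hy, y ∈ L y hy := fun y hy => Submodule.subset_span (by simp)
  have hmemw : ∀ y hy, w y hy ∈ L y hy := fun y hy => Submodule.subset_span (by simp)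
  have key : ∀ y hy y' hy', y' ∉ L y hy → L y hy ≤ L y' hy' ⊔ Submodule.span F {y} := by
    intro y hy y' hy' hny
    have hw' : w y hy ∈ L y' hy' ⊔ Submodule.span F {y} := by
      by_contra hc
      obtain ⟨ψ, hψ, hψw⟩ := exists_functional _ hc
      obtain ⟨φ, hφ, hφy'⟩ := exists_functional _ hny
      have hψy : ψ ⬝ᵥ y = 0 := hψ y (Submodule.mem_sup_right (Submodule.subset_span rfl))
      have t1 : TV K y' ψ := (hiff y' hy' ψ (hψ y' (Submodule.mem_sup_left (hmem _ _)))).2
        (hψ _ (Submodule.mem_sup_left (hmemw _ _)))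
      have t2 : TV K y φ := (hiff y hy φ (hφ _ (hmem _ _))).2 (hφ _ (hmemw _ _))
      have t3 := t1.comm t2 hψy
      rw [hφy', neg_smul, one_smul] at t3
      have t4 := t3.neg_left
      rw [neg_neg] at t4
      rw [(hiff y hy ψ hψy).1 t4] at hψw
      exact zero_ne_one hψw
    rw [Submodule.span_le, Set.insert_subset_iff, Set.singleton_subset_iff]
    exact ⟨Submodule.mem_sup_right (Submodule.subset_span rfl), hw'⟩
  have hdim : ∀ y hy, Module.finrank F (L y hy) = 2 := by
    intro y hy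
    have hli : LinearIndependent F ![y, w y hy] := (LinearIndependent.pair_iff' hy).2 fun a ha =>
      hw y hy (Submodule.mem_span_singleton.2 ⟨a, ha⟩)
    have := finrank_span_eq_card hli
    rwa [show Set.range ![y, w y hy] = ({y, w y hy} : Set (ι → F)) by simp [Set.pair_comm],
      Fintype.card_fin] at this
  have hsymm : ∀ y hy y' hy', y' ∈ L y hy → y ∈ L y' hy' := by
    intro y hy y' hy' hm
    by_contra hc
    have h1 := key y' hy' y hy hc
    rw [sup_eq_left.2 ((Submodule.span_singleton_le_iff_mem _ _).2 hm)] at h1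
    rw [Submodule.eq_of_le_of_finrank_eq h1 (by rw [hdim, hdim])] at hc
    exact hc (hmem y hy)
  have hsame : ∀ y hy y' hy', y' ∈ L y hy → y' ∉ Submodule.span F ({y} : Set (ι → F)) → L y' hy' = L y hy := by
    intro y hy y' hy' hm hind
    have hli : LinearIndependent F ![y, y'] := (LinearIndependent.pair_iff' hy).2 fun a ha =>
      hind (Submodule.mem_span_singleton.2 ⟨a, ha⟩)
    have h2 : Module.finrank F (Submodule.span F ({y, y'} : Set (ι → F))) = 2 := by
      have := finrank_span_eq_card hli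
      rwa [show Set.range ![y, y'] = ({y, y'} : Set (ι → F)) by simp [Set.pair_comm], Fintype.card_fin] at this
    have e1 : Submodule.span F ({y, y'} : Set (ι → F)) = L y hy := Submodule.eq_of_le_of_finrank_eq
      (by rw [Submodule.span_le, Set.insert_subset_iff, Set.singleton_subset_iff]; exact ⟨hmem _ _, hm⟩) (by rw [h2, hdim])
    have e2 : Submodule.span F ({y, y'} : Set (ι → F)) = L y' hy' := Submodule.eq_of_le_of_finrank_eq
      (by rw [Submodule.span_le, Set.insert_subset_iff, Set.singleton_subset_iff]; exact ⟨hsymm y hy y' hy' hm, hmem _ _⟩) (by rw [h2, hdim])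
    rw [← e1, ← e2]
  have hall : ∀ y hy z hz, z ∈ L y hy → L z hz = L y hy := by
    intro y hy z hz hm
    by_cases hind : z ∈ Submodule.span F ({y} : Set (ι → F))
    · obtain ⟨c, hc⟩ := Submodule.mem_span_singleton.1 hind
      have hw0 : w y hy ≠ 0 := fun h0 => hw y hy (h0 ▸ Submodule.zero_mem _)
      have e := hsame y hy (w y hy) hw0 (hmemw _ _) (hw y hy)
      rw [← e]
      refine hsame (w y hy) hw0 z hz (e ▸ hm) fun hz2 => ?_
      obtain ⟨d, hd⟩ := Submodule.mem_span_singleton.1 hz2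
      have hd0 : d ≠ 0 := fun h => hz (by rw [← hd, h, zero_smul])
      refine hw y hy (Submodule.mem_span_singleton.2 ⟨d⁻¹ * c, ?_⟩)
      rw [← smul_smul, hc, ← hd, smul_smul, inv_mul_cancel₀ hd0, one_smul]
    · exact hsame y hy z hz hm hind
  obtain ⟨i⟩ : Nonempty ι := Fintype.card_pos_iff.1 (by omega)
  have hy := single_one_ne_zero (F := F) i
  set y := (Pi.single i (1 : F) : ι → F)
  obtain ⟨y', -, hny⟩ := SetLike.exists_of_lt (lt_top_iff_ne_top.2 (span_pair_ne_top hn y (w y hy)))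
  have hy' : y' ≠ 0 := fun h => hny (h ▸ Submodule.zero_mem _)
  have h1 := key y hy y' hy' hny (hmemw y hy)
  obtain ⟨z, hz, v, hv, e⟩ := Submodule.mem_sup.1 h1
  obtain ⟨b, rfl⟩ := Submodule.mem_span_singleton.1 hv
  have hz0 : z ≠ 0 := fun h => hw y hy (Submodule.mem_span_singleton.2 ⟨b, by rw [← e, h, zero_add]⟩)
  have hzy : z ∈ L y hy := by
    rw [show z = w y hy - b • y by rw [← e, add_sub_cancel_right]]
    exact sub_mem (hmemw _ _) (Submodule.smul_mem _ _ (hmem _ _))
  apply hny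
  show y' ∈ L y hy
  rw [← hall y hy z hz0 hzy, hall y' hy' z hz0 hz]
  exact hmem _ _

omit [Finite F] in
theorem vecMul_X {y φ : ι → F} (h : φ ⬝ᵥ y = 0) (ψ : ι → F) :
    ψ ᵥ* (X y φ h : Matrix ι ι F) = ψ + (ψ ⬝ᵥ y) • φ := by
  show ψ ᵥ* (1 + Matrix.vecMulVec y φ) = _
  rw [Matrix.vecMul_add, Matrix.vecMul_one, Matrix.vecMul_vecMulVec]

omit [Finite F] in
theorem X_inv {y φ : ι → F} (h : φ ⬝ᵥ y = 0) :
    (X y φ h)⁻¹ = X (-y) φ (by rw [dotProduct_neg, h, neg_zero]) := by
  apply inv_eq_of_mul_eq_one_right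
  refine Classical.sl_ext_mulVec fun v => ?_
  rw [Matrix.SpecialLinearGroup.coe_mul, ← mulVec_mulVec, X_mulVec, X_mulVec, dotProduct_add, dotProduct_smul,
    dotProduct_neg, h, neg_zero, smul_zero, add_zero, Matrix.SpecialLinearGroup.coe_one, one_mulVec, smul_neg]
  abel

/-- The regular configuration only exists for SL₄(2). -/
theorem no_regular (hn : 3 ≤ Fintype.card ι) (hexc : ¬ (Fintype.card ι = 4 ∧ Nat.card F = 2)) (K : Subgroup SLι)
    (hidx : K.index = Nat.card F ^ (Fintype.card ι - 1)) (hreg : ∀ y : ι → F, y ≠ 0 → ∀ φ, TV K y φ → φ = 0) :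
    False := by
  classical
  obtain ⟨i0, l, hil⟩ := Fintype.exists_pair_of_one_lt_card (α := ι) (by omega)
  set e0 : ι → F := Pi.single i0 1 with he0
  set el : ι → F := Pi.single l 1 with hel
  have he00 : e0 ≠ 0 := single_one_ne_zero i0
  have hel0 : el ≠ 0 := single_one_ne_zero l
  have hdot0 : ∀ φ : ι → F, φ ⬝ᵥ e0 = φ i0 := fun φ => by simp [he0]
  have hdotl : ∀ v : ι → F, el ⬝ᵥ v = v l := fun v => by simp [hel]
  have hele0 : el ⬝ᵥ e0 = 0 := by rw [hdotl, he0, Pi.single_eq_of_ne hil.symm]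
  -- the transversal
  have hbij : Function.Bijective fun φ : Multiplicative (ann e0) => ((tHom e0 φ : SLι) : SLι ⧸ K) := by
    refine (Nat.bijective_iff_injective_and_card _).2 ⟨fun a b hab => ?_, ?_⟩
    · rw [QuotientGroup.eq, ← map_inv, ← map_mul] at hab
      have h1 : (a⁻¹ * b).toAdd.1 = 0 := hreg e0 he00 _ ((tv_iff (a⁻¹ * b).toAdd.2).2 hab)
      exact inv_mul_eq_one.1 (Subtype.ext h1 : (a⁻¹ * b).toAdd = (0 : ann e0))
    · show Nat.card (ann e0) = _
      rw [card_ann he00, ← hidx]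
      rfl
  have hex : ∀ g : SLι, ∃ (θ : ι → F) (h : θ ⬝ᵥ e0 = 0), X e0 θ h * g ∈ K := by
    intro g
    obtain ⟨φ, hφ⟩ := hbij.2 (g : SLι ⧸ K)
    simp only [QuotientGroup.eq, ← map_inv] at hφ
    exact ⟨φ⁻¹.toAdd.1, φ⁻¹.toAdd.2, hφ⟩
  have hR : ∀ v : ι → F, v l = 0 → el ⬝ᵥ v = 0 := fun v hv => by rw [hdotl, hv]
  have hΦex : ∀ v : ι → F, ∃ φ : ι → F,
      φ ⬝ᵥ e0 = 0 ∧ ∀ (hv : v l = 0) (h : φ ⬝ᵥ e0 = 0), X e0 φ h * X v el (hR v hv) ∈ K := by
    intro v
    by_cases hv : v l = 0
    · obtain ⟨θ, h, hm⟩ := hex (X v el (hR v hv))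
      exact ⟨θ, h, fun _ _ => hm⟩
    · exact ⟨0, zero_dotProduct _, fun h => absurd h hv⟩
  choose Φ hΦ0 hΦm using hΦex
  have huniq : ∀ v (hv : v l = 0) (φ : ι → F) (h : φ ⬝ᵥ e0 = 0), X e0 φ h * X v el (hR v hv) ∈ K → φ = Φ v := by
    intro v hv φ h hm
    have h1 := K.mul_mem hm (K.inv_mem (hΦm v hv (hΦ0 v)))
    rw [_root_.mul_inv_rev, mul_assoc, ← mul_assoc (X v el (hR v hv)), mul_inv_cancel, one_mul] at h1
    have h2 : (X e0 (Φ v) (hΦ0 v))⁻¹ = X e0 (-Φ v) (by rw [neg_dotProduct, hΦ0, neg_zero]) :=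
      (map_inv (tHom e0) (Multiplicative.ofAdd (⟨Φ v, hΦ0 v⟩ : ann e0))).symm
    rw [h2, X_mul, ← tv_iff] at h1
    exact add_neg_eq_zero.1 (hreg e0 he00 _ h1)
  have hswap : ∀ v (hv : v l = 0) (φ : ι → F) (h : φ ⬝ᵥ e0 = 0),
      X v el (hR v hv) * X e0 φ h = X e0 (φ + (-(φ ⬝ᵥ v)) • el) (by
        rw [add_dotProduct, smul_dotProduct, h, hele0, smul_zero, add_zero]) * X v el (hR v hv) := by
    intro v hv φ h
    rw [← mul_inv_eq_iff_eq_mul, conj_X]
    refine X_ext _ _ ?_ ?_
    · rw [X_mulVec, hele0, zero_smul, add_zero]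
    · rw [X_inv, vecMul_X, dotProduct_neg]
  have hadd : ∀ v v', v l = 0 → v' l = 0 → Φ (v + v') = Φ v + Φ v' + (-(Φ v' ⬝ᵥ v)) • el := by
    intro v v' hv hv'
    have hvv : (v + v') l = 0 := by simp [hv, hv']
    symm
    refine huniq (v + v') hvv _ (by
      simp only [add_dotProduct, smul_dotProduct, hΦ0, hele0, smul_zero, add_zero]) ?_
    have h1 := K.mul_mem (hΦm v hv (hΦ0 v)) (hΦm v' hv' (hΦ0 v'))
    rw [mul_assoc, ← mul_assoc (X v el (hR v hv)), hswap v hv _ (hΦ0 v'), mul_assoc, X_mul_left,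
      ← mul_assoc, X_mul] at h1
    convert h1 using 2
    exact X_ext _ _ rfl (by abel)
  -- the middle
  let Mid : (ι → F) → Prop := fun v => v i0 = 0 ∧ v l = 0
  let B : (ι → F) → (ι → F) → F := fun v u => Φ v ⬝ᵥ u
  have hadd2 : ∀ v u u', B v (u + u') = B v u + B v u' := fun v u u' => dotProduct_add _ _ _
  have hsmul2 : ∀ v (c : F) u, B v (c • u) = c * B v u := fun v c u => dotProduct_smul c (Φ v) u
  have hsymm : ∀ v u, v l = 0 → u l = 0 → B v u = B u v := by
    intro v u hv hu
    have h1 := hadd v u hv hu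
    have h2 := hadd u v hu hv
    rw [add_comm u v, h1, add_comm (Φ u)] at h2
    exact (neg_injective (smul_left_injective F hel0 (add_left_cancel h2))).symm
  have hadd1 : ∀ v v' u, v l = 0 → v' l = 0 → u l = 0 → B (v + v') u = B v u + B v' u := by
    intro v v' u hv hv' hu
    show Φ (v + v') ⬝ᵥ u = _
    rw [hadd v v' hv hv', add_dotProduct, add_dotProduct, smul_dotProduct, hR u hu, smul_zero, add_zero]
  have hsmul1 : ∀ v (c : F) u, v l = 0 → u l = 0 → B (c • v) u = c * B v u := by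
    intro v c u hv hu
    rw [hsymm _ _ (by simp [hv]) hu, hsmul2, hsymm u v hu hv]
  have hnondeg : ∀ v, Mid v → v ≠ 0 → ∃ u, Mid u ∧ B v u ≠ 0 := by
    rintro v ⟨hv1, hv2⟩ hv0
    by_contra hc
    push Not at hc
    have hz : Φ v = (Φ v l) • el := by
      funext j
      rcases eq_or_ne j l with rfl | hj
      · simp [hel]
      · rcases eq_or_ne j i0 with rfl | hj0
        · rw [(hdot0 (Φ v)).symm.trans (hΦ0 v)]; simp [hel, hj]
        · have := hc (Pi.single j 1) ⟨Pi.single_eq_of_ne hj0.symm 1, Pi.single_eq_of_ne hj.symm 1⟩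
          simp only [B, dotProduct_single_one] at this
          rw [this]
          simp [hel, hj]
    have hm := hΦm v hv2 (hΦ0 v)
    have e1 : X e0 (Φ v) (hΦ0 v) = X (Φ v l • e0) el (by rw [dotProduct_smul, hele0, smul_zero]) := by
      refine Classical.sl_ext_mulVec fun x => ?_
      rw [X_mulVec, X_mulVec, smul_smul]
      conv_lhs => rw [hz, smul_dotProduct, smul_eq_mul, mul_comm]
    rw [e1, X_mul_left, ← tv_iff] at hm
    refine hel0 (hreg _ (fun h => hv0 ?_) _ hm)
    have := congrFun h i0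
    simp [he0, hv1] at this
    rwa [this, zero_smul, zero_add] at h
  have hequi : ∀ (g : SLι) (δ κ : F), g.1 *ᵥ e0 = δ • e0 → el ᵥ* (g⁻¹ : SLι).1 = κ • el →
      ∀ v u, v l = 0 → u l = 0 → (g.1 *ᵥ v) l = 0 → (g.1 *ᵥ u) l = 0 →
        κ * B (g.1 *ᵥ v) (g.1 *ᵥ u) = δ * B v u := by
    intro g δ κ h1 h2 v u hv hu hgv hgu
    obtain ⟨θ, hθ, hq⟩ := hex g
    have hm := K.mul_mem (K.mul_mem hq (hΦm v hv (hΦ0 v))) (K.inv_mem hq)
    set φ' := δ • (Φ v ᵥ* (g⁻¹ : SLι).1) with hφ'
    set v' := κ • (g.1 *ᵥ v) with hv'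
    have hv'l : v' l = 0 := by simp [hv', hgv]
    have hiδ : g⁻¹.1 *ᵥ (δ • e0) = e0 := by
      rw [← h1, mulVec_mulVec, ← Matrix.SpecialLinearGroup.coe_mul, inv_mul_cancel,
        Matrix.SpecialLinearGroup.coe_one, one_mulVec]
    have hφ'0 : φ' ⬝ᵥ e0 = 0 := by
      rw [hφ', smul_dotProduct, ← dotProduct_smul, ← dotProduct_mulVec, hiδ, hΦ0]
    have e1 : g * X e0 (Φ v) (hΦ0 v) * g⁻¹ = X e0 φ' hφ'0 := by
      rw [conj_X]
      refine Classical.sl_ext_mulVec fun x => ?_
      rw [X_mulVec, X_mulVec, h1, hφ', smul_dotProduct, smul_smul, smul_eq_mul, mul_comm]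
    have e2 : g * X v el (hR v hv) * g⁻¹ = X v' el (hR v' hv'l) := by
      rw [conj_X]
      refine Classical.sl_ext_mulVec fun x => ?_
      rw [X_mulVec, X_mulVec, h2, hv', smul_dotProduct, smul_smul, smul_eq_mul, mul_comm]
    have e3 : (X e0 θ hθ)⁻¹ = X e0 (-θ) (by rw [neg_dotProduct, hθ, neg_zero]) :=
      (map_inv (tHom e0) (Multiplicative.ofAdd (⟨θ, hθ⟩ : ann e0))).symm
    have e4 : X e0 θ hθ * g * (X e0 (Φ v) (hΦ0 v) * X v el (hR v hv)) * (X e0 θ hθ * g)⁻¹ =
        X e0 θ hθ * ((g * X e0 (Φ v) (hΦ0 v) * g⁻¹) * (g * X v el (hR v hv) * g⁻¹)) * (X e0 θ hθ)⁻¹ := by group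
    rw [e4, e1, e2, e3, mul_assoc, mul_assoc (X e0 φ' hφ'0), hswap v' hv'l _ _, ← mul_assoc (X e0 φ' hφ'0),
      ← mul_assoc (X e0 θ hθ), X_mul, X_mul] at hm
    have key := huniq v' hv'l _ _ hm
    have h5 : B v' (g.1 *ᵥ u) = φ' ⬝ᵥ (g.1 *ᵥ u) := by
      show Φ v' ⬝ᵥ _ = _
      rw [← key]
      simp only [add_dotProduct, smul_dotProduct, neg_dotProduct, hR _ hgu, smul_zero, add_zero]
      ring
    rw [hv', hsmul1 _ _ _ hgv hgu, hφ', smul_dotProduct, smul_eq_mul, ← dotProduct_mulVec, mulVec_mulVec,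
      ← Matrix.SpecialLinearGroup.coe_mul, inv_mul_cancel, Matrix.SpecialLinearGroup.coe_one, one_mulVec] at h5
    exact h5
  -- transvections of the middle
  have htv : ∀ w u, Mid w → Mid u → ∀ χ : ι → F, χ i0 = 0 → χ l = 0 → χ ⬝ᵥ w = 0 → χ ⬝ᵥ u = 0 →
      ∀ v, Mid v → χ ⬝ᵥ v = 1 → B w u = 0 := by
    intro w u hw hu χ hχ0 hχl hχw hχu v hv hχv
    have h1 : (X w χ hχw).1 *ᵥ e0 = (1 : F) • e0 := by
      rw [X_mulVec, hdot0, hχ0, zero_smul, add_zero, one_smul]
    have h2 : el ᵥ* ((X w χ hχw)⁻¹ : SLι).1 = (1 : F) • el := by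
      rw [X_inv, vecMul_X, dotProduct_neg, hR w hw.2, neg_zero, zero_smul, add_zero, one_smul]
    have hgv : (X w χ hχw).1 *ᵥ v = v + w := by rw [X_mulVec, hχv, one_smul]
    have hgu : (X w χ hχw).1 *ᵥ u = u := by rw [X_mulVec, hχu, zero_smul, add_zero]
    have h3 := hequi _ 1 1 h1 h2 v u hv.2 hu.2 (by rw [hgv]; simp [hv.2, hw.2]) (by rw [hgu, hu.2])
    rw [hgv, hgu, one_mul, one_mul, hadd1 v w u hv.2 hw.2 hu.2] at h3
    simpa using h3
  have hexj : ∃ j, j ≠ i0 ∧ j ≠ l := by
    by_contra hc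
    push Not at hc
    have : (Finset.univ : Finset ι) ⊆ {i0, l} := fun j _ => by
      rcases eq_or_ne j i0 with h | h
      · simp [h]
      · simp [hc j h]
    have h2 := (Finset.card_le_card this).trans (Finset.card_insert_le _ _)
    rw [Finset.card_univ, Finset.card_singleton] at h2
    omega
  have hMid1 : ∀ j, j ≠ i0 → j ≠ l → Mid (Pi.single j (1 : F)) := fun j h1 h2 =>
    ⟨Pi.single_eq_of_ne h1.symm 1, Pi.single_eq_of_ne h2.symm 1⟩
  have hdiagT : ∀ d : ι → F, ∀ hd : ∏ i, d i = 1, ∀ v u, Mid v → Mid u →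
      (d l)⁻¹ * B (fun i => d i * v i) (fun i => d i * u i) = d i0 * B v u := by
    intro d hd v u hv hu
    let g : SLι := ⟨Matrix.diagonal d, by rw [Matrix.det_diagonal, hd]⟩
    have hmv : ∀ x : ι → F, g.1 *ᵥ x = fun i => d i * x i := fun x => funext fun i => Matrix.mulVec_diagonal d x i
    have hdl : d l ≠ 0 := fun h => by
      rw [Finset.prod_eq_zero (Finset.mem_univ l) h] at hd
      exact zero_ne_one hd
    have h1 : g.1 *ᵥ e0 = d i0 • e0 := by
      rw [hmv]
      funext i
      rcases eq_or_ne i i0 with rfl | h <;> simp [he0, *]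
    have h2 : el ᵥ* (g⁻¹ : SLι).1 = (d l)⁻¹ • el := by
      have hg : el ᵥ* g.1 = d l • el := by
        funext i
        show (el ᵥ* Matrix.diagonal d) i = _
        rw [Matrix.vecMul_diagonal]
        rcases eq_or_ne i l with rfl | h <;> simp [hel, *]
      calc el ᵥ* (g⁻¹ : SLι).1 = ((d l)⁻¹ • (el ᵥ* g.1)) ᵥ* (g⁻¹ : SLι).1 := by
            rw [hg, smul_smul, inv_mul_cancel₀ hdl, one_smul]
        _ = _ := by
            rw [Matrix.smul_vecMul, vecMul_vecMul, ← Matrix.SpecialLinearGroup.coe_mul, mul_inv_cancel,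
              Matrix.SpecialLinearGroup.coe_one, vecMul_one]
    have h3 := hequi g _ _ h1 h2 v u hv.2 hu.2 (by rw [hmv]; simp [hv.2]) (by rw [hmv]; simp [hu.2])
    rwa [hmv, hmv] at h3
  have hfun : ∀ w, Mid w → w ≠ 0 → 4 ≤ Fintype.card ι →
      ∃ χ : ι → F, χ i0 = 0 ∧ χ l = 0 ∧ χ ⬝ᵥ w = 0 ∧ ∃ v, Mid v ∧ χ ⬝ᵥ v = 1 := by
    intro w hw hw0 h4
    obtain ⟨j, hj0, hjl, hjw⟩ :
        ∃ j, j ≠ i0 ∧ j ≠ l ∧ Pi.single j (1 : F) ∉ Submodule.span F ({w} : Set (ι → F)) := by
      by_contra hc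
      push Not at hc
      obtain ⟨j, hj0, hjl⟩ := hexj
      obtain ⟨j', -, hj'⟩ := Finset.exists_mem_notMem_of_card_lt_card
        (s := ({i0, l, j} : Finset ι)) (t := Finset.univ) (lt_of_le_of_lt Finset.card_le_three (by
          rw [Finset.card_univ]; omega))
      simp only [Finset.mem_insert, Finset.mem_singleton, not_or] at hj'
      obtain ⟨a, ha⟩ := Submodule.mem_span_singleton.1 (hc j hj0 hjl)
      obtain ⟨b, hb⟩ := Submodule.mem_span_singleton.1 (hc j' hj'.1 hj'.2.1)
      have e1 := congrFun ha j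
      have e2 := congrFun hb j
      simp [Ne.symm hj'.2.2] at e1 e2
      rcases e2 with rfl | e2
      · exact single_one_ne_zero (F := F) j' (by rw [← hb, zero_smul])
      · rw [e2, mul_zero] at e1; exact zero_ne_one e1
    have hP : Pi.single j (1 : F) ∉ Submodule.span F ({e0, el, w} : Set (ι → F)) := by
      intro hc
      obtain ⟨a, z, hz, e⟩ := Submodule.mem_span_insert.1 hc
      obtain ⟨b, c, rfl⟩ := Submodule.mem_span_pair.1 hz
      have e1 := congrFun e i0
      have e2 := congrFun e l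
      simp [he0, hel, hw.1, hw.2, hil, hil.symm, Ne.symm hj0, Ne.symm hjl] at e1 e2
      refine hjw (Submodule.mem_span_singleton.2 ⟨c, ?_⟩)
      rw [e, ← e1, ← e2, zero_smul, zero_smul, zero_add, zero_add]
    obtain ⟨χ, hχ, hχj⟩ := exists_functional _ hP
    refine ⟨χ, ?_, ?_, hχ w (Submodule.subset_span (by simp)), _, hMid1 j hj0 hjl, hχj⟩
    · exact (hdot0 χ).symm.trans (hχ e0 (Submodule.subset_span (by simp)))
    · simpa [hel] using hχ el (Submodule.subset_span (by simp))
  obtain ⟨j, hj0, hjl⟩ := hexj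
  have hn3 : Fintype.card ι = 3 → ∀ v, Mid v → v = v j • Pi.single j (1 : F) := by
    intro h3 v hv
    funext i
    have huniv : ({i0, l, j} : Finset ι) = Finset.univ := by
      apply Finset.eq_univ_of_card
      rw [h3, Finset.card_eq_three]
      exact ⟨i0, l, j, hil, hj0.symm, hjl.symm, rfl⟩
    have hi := Finset.mem_univ i
    rw [← huniv] at hi
    simp only [Finset.mem_insert, Finset.mem_singleton] at hi
    rcases hi with rfl | rfl | rfl
    · simp [hv.1, Ne.symm hj0]
    · simp [hv.2, Ne.symm hjl]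
    · simp
  -- the form is alternating
  have halt : ∀ w, Mid w → B w w = 0 := by
    intro w hw
    by_cases h2 : (2 : F) = 0
    · have h1 := hadd w w hw.2 hw.2
      have hww : w + w = 0 := by
        rw [← two_smul F, h2, zero_smul]
      have hΦ : Φ w + Φ w = 0 := by rw [← two_smul F, h2, zero_smul]
      have h0 : Φ 0 = 0 := by
        have h0' := hadd 0 0 (Pi.zero_apply l) (Pi.zero_apply l)
        rw [add_zero, dotProduct_zero, neg_zero, zero_smul, add_zero] at h0'
        exact left_eq_add.1 h0'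
      rw [hww, h0, hΦ, zero_add, eq_comm, smul_eq_zero, neg_eq_zero] at h1
      exact h1.resolve_right hel0
    · rcases (by omega : Fintype.card ι = 3 ∨ 4 ≤ Fintype.card ι) with h3 | h4
      · let d : ι → F := fun i => if i = i0 then 1 else -1
        have hd : ∏ i, d i = 1 := by
          rw [← Finset.mul_prod_erase Finset.univ _ (Finset.mem_univ i0),
            Finset.prod_congr rfl (fun i hi => if_neg (Finset.ne_of_mem_erase hi)), Finset.prod_const,
            Finset.card_erase_of_mem (Finset.mem_univ i0), Finset.card_univ, h3]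
          simp [d]
        have h := hdiagT d hd w w hw hw
        have e : (fun i => d i * w i) = (-1 : F) • w := by
          funext i
          rcases eq_or_ne i i0 with rfl | hi
          · simp [hw.1]
          · simp [d, hi]
        rw [e, hsmul1 _ _ _ hw.2 (by simp [hw.2]), hsmul2] at h
        simp only [d, if_neg hil.symm, if_pos] at h
        have h' : (2 : F) * B w w = 0 := by linear_combination -h
        exact (mul_eq_zero.1 h').resolve_left h2
      · rcases eq_or_ne w 0 with rfl | hw0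
        · exact dotProduct_zero _
        obtain ⟨χ, a, b, c, v, hv, hχv⟩ := hfun w hw hw0 h4
        exact htv w w hw hw χ a b c c v hv hχv
  have hzero : ∀ w u, Mid w → Mid u → B w u = 0 := by
    intro w u hw hu
    by_cases h2 : (2 : F) = 0
    swap
    · have h := halt (w + u) ⟨by simp [hw.1, hu.1], by simp [hw.2, hu.2]⟩
      rw [hadd1 w u _ hw.2 hu.2 (by simp [hw.2, hu.2]), hadd2, hadd2, halt w hw, halt u hu,
        hsymm u w hu.2 hw.2, zero_add, add_zero, ← two_mul] at h
      exact (mul_eq_zero.1 h).resolve_left h2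
    rcases (by omega : Fintype.card ι = 3 ∨ Fintype.card ι = 4 ∨ 5 ≤ Fintype.card ι) with h3 | h4 | h5
    · rw [hn3 h3 w hw, hn3 h3 u hu, hsmul1 _ _ _ (hMid1 j hj0 hjl).2 (by simp [Ne.symm hjl]), hsmul2,
        halt _ (hMid1 j hj0 hjl), mul_zero, mul_zero]
    · haveI := Fintype.ofFinite F
      obtain ⟨t, ht0, ht1⟩ : ∃ t : F, t ≠ 0 ∧ t ≠ 1 := by
        by_contra hc
        push Not at hc
        refine hexc ⟨h4, le_antisymm ?_ Finite.one_lt_card⟩
        rw [Nat.card_eq_fintype_card, ← Finset.card_univ]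
        exact (Finset.card_le_card fun x _ => show x ∈ ({0, 1} : Finset F) by
          rcases eq_or_ne x 0 with h | h <;> simp [*]).trans (Finset.card_le_two)
      haveI : CharP F 2 := CharTwo.of_one_ne_zero_of_two_eq_zero one_ne_zero h2
      let d : ι → F := fun i => if i = i0 then 1 else if i = l then (t ^ 2)⁻¹ else t
      have hd : ∏ i, d i = 1 := by
        rw [← Finset.mul_prod_erase Finset.univ _ (Finset.mem_univ i0),
          ← Finset.mul_prod_erase _ _ (Finset.mem_erase.2 ⟨hil.symm, Finset.mem_univ l⟩),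
          Finset.prod_congr rfl (fun i hi => show d i = t by
            simp only [Finset.mem_erase] at hi
            simp [d, hi.1, hi.2.1]), Finset.prod_const, Finset.card_erase_of_mem
              (Finset.mem_erase.2 ⟨hil.symm, Finset.mem_univ l⟩), Finset.card_erase_of_mem (Finset.mem_univ i0),
          Finset.card_univ, h4]
        simp [d, hil.symm, ht0]
      have h := hdiagT d hd w u hw hu
      have e : ∀ x, Mid x → (fun i => d i * x i) = t • x := by
        intro x hx
        funext i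
        rcases eq_or_ne i i0 with rfl | hi
        · simp [hx.1]
        rcases eq_or_ne i l with rfl | hi'
        · simp [hx.2]
        · simp [d, hi, hi']
      rw [e w hw, e u hu, hsmul1 _ _ _ hw.2 (by simp [hu.2]), hsmul2] at h
      simp only [d, if_pos, if_neg hil.symm, inv_inv, one_mul] at h
      have h' : (t - 1) ^ 4 * B w u = 0 := by
        linear_combination h + B w u * (-2 * t ^ 3 + 3 * t ^ 2 - 2 * t + 1) * (CharTwo.two_eq_zero (R := F))
      exact (mul_eq_zero.1 h').resolve_left (pow_ne_zero _ (sub_ne_zero.2 ht1))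
    · rcases eq_or_ne w 0 with rfl | hw0
      · have := hsmul1 u 0 u hu.2 hu.2
        rwa [zero_smul, zero_mul] at this
      obtain ⟨k, hk0, hkl, hk⟩ : ∃ k, k ≠ i0 ∧ k ≠ l ∧
          Pi.single k (1 : F) ∉ Submodule.span F ({w, u} : Set (ι → F)) := by
        by_contra hc
        push Not at hc
        have hsub : Submodule.span F ((fun k => Pi.single k (1 : F)) '' {k | k ≠ i0 ∧ k ≠ l}) ≤
            Submodule.span F ({w, u} : Set (ι → F)) := by
          rw [Submodule.span_le]
          rintro _ ⟨k, hk, rfl⟩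
          exact hc k hk.1 hk.2
        have h1 := Submodule.finrank_mono hsub
        have hli : LinearIndependent F (fun k : {k : ι // k ≠ i0 ∧ k ≠ l} => (Pi.single k.1 (1 : F) : ι → F)) := by
          have := (Pi.basisFun F ι).linearIndependent.comp (fun k : {k : ι // k ≠ i0 ∧ k ≠ l} => k.1)
            Subtype.val_injective
          simpa [Function.comp_def, Pi.basisFun_apply] using this
        have h2 := finrank_span_eq_card hli
        rw [show Set.range (fun k : {k : ι // k ≠ i0 ∧ k ≠ l} => (Pi.single k.1 (1 : F) : ι → F)) =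
          (fun k => Pi.single k (1 : F)) '' {k | k ≠ i0 ∧ k ≠ l} by ext; simp [and_assoc]] at h2
        rw [h2, Fintype.card_subtype] at h1
        have h3 := finrank_span_finset_le_card (R := F) ({w, u} : Finset (ι → F))
        rw [Set.finrank, Finset.coe_insert, Finset.coe_singleton] at h3
        have h4' := (Finset.card_insert_le w ({u} : Finset (ι → F))).trans (by rw [Finset.card_singleton])
        have h6 : (Finset.univ.filter fun k : ι => k ≠ i0 ∧ k ≠ l).card = Fintype.card ι - 2 := by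
          rw [show (Finset.univ.filter fun k : ι => k ≠ i0 ∧ k ≠ l) = Finset.univ \ {i0, l} by ext; simp,
            Finset.card_sdiff_of_subset (Finset.subset_univ _), Finset.card_univ, Finset.card_pair hil]
        omega
      have hP : Pi.single k (1 : F) ∉ Submodule.span F ({e0, el, w, u} : Set (ι → F)) := by
        intro hc
        obtain ⟨a, z, hz, e⟩ := Submodule.mem_span_insert.1 hc
        obtain ⟨b, z', hz', rfl⟩ := Submodule.mem_span_insert.1 hz
        obtain ⟨c, c', rfl⟩ := Submodule.mem_span_pair.1 hz'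
        have e1 := congrFun e i0
        have e2 := congrFun e l
        simp [he0, hel, hw.1, hw.2, hu.1, hu.2, hil, hil.symm, Ne.symm hk0, Ne.symm hkl] at e1 e2
        refine hk (Submodule.mem_span_pair.2 ⟨c, c', ?_⟩)
        rw [e, ← e1, ← e2, zero_smul, zero_smul, zero_add, zero_add]
      obtain ⟨χ, hχ, hχk⟩ := exists_functional _ hP
      exact htv w u hw hu χ ((hdot0 χ).symm.trans (hχ e0 (Submodule.subset_span (by simp))))
        (by simpa [hel] using hχ el (Submodule.subset_span (by simp)))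
        (hχ w (Submodule.subset_span (by simp))) (hχ u (Submodule.subset_span (by simp))) _ (hMid1 k hk0 hkl) hχk
  obtain ⟨u, hu, hu'⟩ := hnondeg _ (hMid1 j hj0 hjl) (single_one_ne_zero j)
  exact hu' (hzero _ _ (hMid1 j hj0 hjl) hu)

/-- Proper subgroups have index at least the number of points. -/
theorem index_ge (hn : 3 ≤ Fintype.card ι) (hexc : ¬ (Fintype.card ι = 4 ∧ Nat.card F = 2)) (K : Subgroup SLι)
    (hK : K ≠ ⊤) : (∑ i ∈ Finset.range (Fintype.card ι), Nat.card F ^ i) ≤ K.index := by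
  classical
  by_contra hlt
  push Not at hlt
  by_cases hpt : ∃ (g : SLι) (y : ι → F), y ≠ 0 ∧ Pt (K.map (MulAut.conj g).toMonoidHom) y
  · obtain ⟨g, y, hy, hP⟩ := hpt
    set K' := K.map (MulAut.conj g).toMonoidHom with hK'
    have hidx : K'.index = K.index := Subgroup.index_map_of_bijective (MulAut.conj g).bijective K
    set C := ptSub K' with hC
    have hCb : C ≠ ⊥ := fun h => hy (by
      have : y ∈ C := hP
      rwa [h, Submodule.mem_bot] at this)
    have hCt : C ≠ ⊤ := by
      intro h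
      apply hK
      have htop : K' = ⊤ := eq_top_of_pt fun i => (h ▸ Submodule.mem_top : Pi.single i (1 : F) ∈ C)
      rw [← Subgroup.index_eq_one, ← hidx, htop, Subgroup.index_top]
    have hstab : ∀ k ∈ K', img C k = C := by
      intro k hk
      refine le_antisymm ?_ fun x hx => ?_
      · intro x hx
        obtain ⟨c, hc, rfl⟩ := mem_img.1 hx
        exact Pt.map hc hk
      · refine mem_img.2 ⟨(k⁻¹ : SLι).1 *ᵥ x, Pt.map hx (K'.inv_mem hk), ?_⟩
        rw [mulVec_mulVec, ← Matrix.SpecialLinearGroup.coe_mul, mul_inv_cancel, Matrix.SpecialLinearGroup.coe_one,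
          one_mulVec]
    have := (card_points_le_orbit hn C hCb hCt).trans (card_range_img_le C K' hstab)
    omega
  push Not at hpt
  have htri := fun (y : ι → F) (hy : y ≠ 0) => trichotomy hn K hlt hy fun g => hpt g y hy
  have hexcl : ¬ (K.index = Nat.card F ^ (Fintype.card ι - 1) ∧
      K.index + 1 = ∑ i ∈ Finset.range (Fintype.card ι), Nat.card F ^ i) := by
    rintro ⟨h1, h2⟩
    obtain ⟨m, hm⟩ : ∃ m, Fintype.card ι = m + 1 := ⟨Fintype.card ι - 1, by omega⟩
    rw [hm, Finset.sum_range_succ] at h2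
    rw [hm, Nat.add_sub_cancel] at h1
    have := two_le_sum_pow (q := Nat.card F) Nat.card_pos (show 2 ≤ m by omega)
    omega
  by_cases hreg : K.index = Nat.card F ^ (Fintype.card ι - 1)
  · refine no_regular hn hexc K hreg fun y hy => ?_
    rcases htri y hy with h | h
    · exact h.2
    · exact absurd ⟨hreg, h.1⟩ hexcl
  · refine no_planes hn K fun y hy => ?_
    rcases htri y hy with h | h
    · exact absurd h.1 hreg
    · exact h.2

end Cfsg.Agent.MinIndex
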