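import Cfsg.Agent.MinIndex.Basic

/-!
The orbits of a transvection group with fixed centre on the cosets of a subgroup of small index.
-/

set_option autoImplicit false

namespace Cfsg.Agent.MinIndex

open Matrix Cfsg.Agent.RegGen

variable {ι F : Type*} [Fintype ι] [DecidableEq ι] [Field F]

local notation "SLι" => SpecialLinearGroup ι F

/-- The functionals killing `y`. -/
def ann (y : ι → F) : Submodule F (ι → F) where
  carrier := {φ | φ ⬝ᵥ y = 0}
  zero_mem' := zero_dotProduct y
  add_mem' := fun {a b} ha hb => show (a + b) ⬝ᵥ y = 0 by rw [add_dotProduct, ha, hb, add_zero]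
  smul_mem' := fun c a ha => show (c • a) ⬝ᵥ y = 0 by rw [smul_dotProduct, ha, smul_zero]

omit [DecidableEq ι] in
theorem mem_ann {y φ : ι → F} : φ ∈ ann y ↔ φ ⬝ᵥ y = 0 := Iff.rfl

/-- The transvection group with centre `y`. -/
def tHom (y : ι → F) : Multiplicative (ann y) →* SLι where
  toFun φ := X y φ.toAdd.1 φ.toAdd.2
  map_one' := Classical.sl_ext_mulVec fun v => by
    show (X y (0 : ι → F) (zero_dotProduct y)).1 *ᵥ v = _
    rw [X_mulVec]; simp
  map_mul' φ φ' := (X_mul φ.toAdd.2 φ'.toAdd.2).symm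

/-- The part fixing a point. -/
def fixPart (y : ι → F) {Ω : Type*} [MulAction SLι Ω] (α : Ω) : AddSubgroup (ι → F) where
  carrier := {φ | ∃ h : φ ⬝ᵥ y = 0, X y φ h • α = α}
  zero_mem' := ⟨zero_dotProduct y, by
    rw [show X y (0 : ι → F) (zero_dotProduct y) = 1 from map_one (tHom y), one_smul]⟩
  add_mem' := by
    rintro a b ⟨ha, ha'⟩ ⟨hb, hb'⟩
    exact ⟨by rw [add_dotProduct, ha, hb, add_zero], by rw [← X_mul ha hb, mul_smul, hb', ha']⟩
  neg_mem' := by
    rintro a ⟨ha, ha'⟩
    refine ⟨by rw [neg_dotProduct, ha, neg_zero], ?_⟩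
    conv_lhs => rw [← ha']
    rw [← mul_smul, X_mul]
    rw [X_ext (y' := y) (φ' := (0 : ι → F)) _ (zero_dotProduct y) rfl (neg_add_cancel a),
      show X y (0 : ι → F) (zero_dotProduct y) = 1 from map_one (tHom y), one_smul]

/-- The characters trivial on the fixing part. -/
def perpPart (ψ : AddChar F ℂ) (S : AddSubgroup (ι → F)) : AddSubgroup (ι → F) where
  carrier := {w | ∀ φ ∈ S, ψ (φ ⬝ᵥ w) = 1}
  zero_mem' := fun φ _ => by rw [dotProduct_zero, AddChar.map_zero_eq_one]
  add_mem' := fun {a b} ha hb φ hφ => by rw [dotProduct_add, AddChar.map_add_eq_mul, ha φ hφ, hb φ hφ, one_mul]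
  neg_mem' := fun {a} ha φ hφ => by
    rw [dotProduct_neg, AddChar.map_neg_eq_inv, ha φ hφ, inv_one]

variable [Finite F]

theorem card_perp {ψ : AddChar F ℂ} (hψ : ψ ≠ 1) (S : AddSubgroup (ι → F)) :
    Nat.card S * Nat.card (perpPart ψ S) = Nat.card F ^ Fintype.card ι := by
  classical
  haveI := Fintype.ofFinite F
  have inner : ∀ w : ι → F, (∑ φ : S, ψ ((φ : ι → F) ⬝ᵥ w)) =
      if w ∈ perpPart ψ S then (Nat.card S : ℂ) else 0 := by
    intro w
    split_ifs with h
    · rw [Finset.sum_congr rfl fun φ _ => h φ.1 φ.2]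
      simp [Nat.card_eq_fintype_card]
    · let χ : AddChar S ℂ :=
        ⟨fun φ => ψ ((φ : ι → F) ⬝ᵥ w), by simp, fun a b => by simp [add_dotProduct, AddChar.map_add_eq_mul]⟩
      refine AddChar.sum_eq_zero_of_ne_one (ψ := χ) fun h1 => h fun φ hφ => ?_
      exact DFunLike.congr_fun h1 ⟨φ, hφ⟩
  have outer : ∀ φ : S, (∑ w : ι → F, ψ ((φ : ι → F) ⬝ᵥ w)) =
      if φ = 0 then ((Nat.card F ^ Fintype.card ι : ℕ) : ℂ) else 0 := by
    intro φ
    split_ifs with h
    · subst h
      simp [Nat.card_eq_fintype_card, AddChar.map_zero_eq_one, zero_dotProduct]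
    · let χ : AddChar (ι → F) ℂ :=
        ⟨fun w => ψ ((φ : ι → F) ⬝ᵥ w), by simp, fun a b => by simp [dotProduct_add, AddChar.map_add_eq_mul]⟩
      refine AddChar.sum_eq_zero_of_ne_one (ψ := χ) fun h1 => ?_
      obtain ⟨i, hi⟩ := Function.ne_iff.1 (fun e : (φ : ι → F) = 0 => h (Subtype.ext e))
      obtain ⟨a, ha⟩ := AddChar.ne_one_iff.1 hψ
      have := DFunLike.congr_fun h1 (Pi.single i (a / (φ : ι → F) i))
      simp [χ, mul_div_cancel₀ _ hi] at this
      exact ha this
  have h := Finset.sum_comm (s := (Finset.univ : Finset (ι → F))) (t := (Finset.univ : Finset S))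
    (f := fun w φ => ψ ((φ : ι → F) ⬝ᵥ w))
  simp only [inner, outer, Finset.sum_ite, Finset.sum_const_zero, add_zero, Finset.sum_const, nsmul_eq_mul,
    Finset.filter_eq', Finset.mem_univ, if_true, Finset.card_singleton, Nat.cast_one, one_mul] at h
  rw [show ((Finset.univ.filter fun w => w ∈ perpPart ψ S).card : ℂ) = (Nat.card (perpPart ψ S) : ℂ) by
    rw [Nat.card_eq_fintype_card, Fintype.card_subtype]] at h
  rw [mul_comm]
  exact_mod_cast h

theorem card_ann {y : ι → F} (hy : y ≠ 0) : Nat.card (ann y) = Nat.card F ^ (Fintype.card ι - 1) := by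
  rw [Module.natCard_eq_pow_finrank (K := F) (V := ann y)]
  congr 1
  obtain ⟨i, hi⟩ := Function.ne_iff.1 hy
  let f : (ι → F) →ₗ[F] F :=
    { toFun := fun φ => φ ⬝ᵥ y
      map_add' := fun a b => add_dotProduct a b y
      map_smul' := fun c a => smul_dotProduct c a y }
  have h2 := LinearMap.finrank_range_add_finrank_ker f
  have h3 : LinearMap.range f = ⊤ := by
    rw [eq_top_iff]
    intro c _
    exact ⟨Pi.single i (c / y i), by simp [f, div_mul_cancel₀ _ hi]⟩
  rw [h3, finrank_top, Module.finrank_self, Module.finrank_fintype_fun_eq_card] at h2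
  have h4 : LinearMap.ker f = ann y := SetLike.ext fun φ => Iff.rfl
  rw [h4] at h2
  omega

/-- The three possibilities for a centre, when no point is fixed by the whole group: the regular one, or a
hyperplane. -/
theorem trichotomy (hn : 3 ≤ Fintype.card ι) (K : Subgroup SLι)
    (hd : K.index < ∑ i ∈ Finset.range (Fintype.card ι), Nat.card F ^ i) {y : ι → F} (hy : y ≠ 0)
    (hpt : ∀ g : SLι, ¬ Pt (K.map (MulAut.conj g).toMonoidHom) y) :
    (K.index = Nat.card F ^ (Fintype.card ι - 1) ∧ ∀ φ, TV K y φ → φ = 0) ∨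
      (K.index + 1 = ∑ i ∈ Finset.range (Fintype.card ι), Nat.card F ^ i ∧
        ∃ w, w ∉ Submodule.span F ({y} : Set (ι → F)) ∧ ∀ φ, φ ⬝ᵥ y = 0 → (TV K y φ ↔ φ ⬝ᵥ w = 0)) := by
  classical
  haveI := Fintype.ofFinite F
  obtain ⟨ψ, hψ1⟩ : ∃ ψ : AddChar F ℂ, ψ 1 ≠ 1 := AddChar.exists_apply_ne_zero.2 one_ne_zero
  have hψ : ψ ≠ 1 := fun h => hψ1 (by rw [h]; rfl)
  letI : MulAction (Multiplicative (ann y)) (SLι ⧸ K) := MulAction.compHom _ (tHom y)
  set q := Nat.card F with hqdef
  have hq : 1 < q := Finite.one_lt_card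
  obtain ⟨m, hm⟩ : ∃ m, Fintype.card ι = m + 1 := ⟨Fintype.card ι - 1, by omega⟩
  rw [hm, Nat.add_sub_cancel]
  rw [hm] at hd
  let S : SLι ⧸ K → AddSubgroup (ι → F) := fun α => fixPart y α
  let W : SLι ⧸ K → AddSubgroup (ι → F) := fun α => perpPart ψ (S α)
  have hact : ∀ (φ : Multiplicative (ann y)) (α : SLι ⧸ K), φ • α = tHom y φ • α := fun φ α => rfl
  have hS : ∀ (φ : Multiplicative (ann y)) (α : SLι ⧸ K), S (φ • α) = S α := by
    intro φ α
    ext v
    have key : ∀ h : v ⬝ᵥ y = 0, (X y v h • φ • α = φ • α ↔ X y v h • α = α) := fun h => by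
      have e : X y v h * tHom y φ = tHom y φ * X y v h := by
        have h1 := map_mul (tHom y) (Multiplicative.ofAdd (⟨v, h⟩ : ann y)) φ
        rw [mul_comm, map_mul] at h1
        exact h1.symm
      rw [hact, ← mul_smul, e, mul_smul, smul_left_cancel_iff]
    exact exists_congr key
  -- cardinalities
  have hcard : ∀ α : SLι ⧸ K, Nat.card (MulAction.orbit (Multiplicative (ann y)) α) * Nat.card (S α) = q ^ m := by
    intro α
    have e : Nat.card (MulAction.stabilizer (Multiplicative (ann y)) α) = Nat.card (S α) := Nat.card_congr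
      { toFun := fun φ => ⟨φ.1.toAdd.1, φ.1.toAdd.2, φ.2⟩
        invFun := fun v => ⟨Multiplicative.ofAdd ⟨v.1, v.2.1⟩, v.2.2⟩
        left_inv := fun φ => rfl
        right_inv := fun v => rfl }
    rw [← e, Nat.card_coe_set_eq, ← MulAction.index_stabilizer, Subgroup.index_mul_card]
    show Nat.card (ann y) = _
    rw [card_ann hy, hm, Nat.add_sub_cancel]
  have hW : ∀ α : SLι ⧸ K, Nat.card (W α) = q * Nat.card (MulAction.orbit (Multiplicative (ann y)) α) := by
    intro α
    have h1 := card_perp hψ (S α)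
    rw [hm, pow_succ', ← hcard α, mul_comm (Nat.card (MulAction.orbit _ α)), ← mul_assoc, mul_comm q,
      mul_assoc] at h1
    exact mul_left_cancel₀ (Nat.card_pos).ne' h1
  set L := Submodule.span F ({y} : Set (ι → F)) with hL
  have hLcard : Nat.card L = q := by
    rw [Module.natCard_eq_pow_finrank (K := F) (V := L), finrank_span_singleton hy, pow_one]
  have hLW : ∀ α, ∀ w ∈ L, w ∈ W α := by
    intro α w hw φ hφ
    obtain ⟨c, rfl⟩ := Submodule.mem_span_singleton.1 hw
    rw [dotProduct_smul, hφ.1, smul_zero, AddChar.map_zero_eq_one]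
  -- no fixed point
  have horb : ∀ α : SLι ⧸ K, 1 < Nat.card (MulAction.orbit (Multiplicative (ann y)) α) := by
    intro α
    by_contra hle
    push Not at hle
    have hsub : Subsingleton (MulAction.orbit (Multiplicative (ann y)) α) :=
      Finite.card_le_one_iff_subsingleton.1 hle
    obtain ⟨g, rfl⟩ := QuotientGroup.mk_surjective α
    refine hpt g fun φ hφ => (tv_iff hφ).2 ?_
    have h1 : Multiplicative.ofAdd (⟨φ, hφ⟩ : ann y) • (g : SLι ⧸ K) = g := congrArg Subtype.val
      (Subsingleton.elim (⟨_, MulAction.mem_orbit _ (Multiplicative.ofAdd (⟨φ, hφ⟩ : ann y))⟩ :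
        MulAction.orbit (Multiplicative (ann y)) (g : SLι ⧸ K)) ⟨_, MulAction.mem_orbit_self _⟩)
    rw [hact, MulAction.Quotient.smul_coe, eq_comm, QuotientGroup.eq] at h1
    exact ⟨_, h1, by simp [mul_assoc]; rfl⟩
  -- the orbits
  set O := MulAction.orbitRel.Quotient (Multiplicative (ann y)) (SLι ⧸ K) with hO
  haveI : Fintype O := Fintype.ofFinite O
  let WO : O → AddSubgroup (ι → F) := fun o => W o.out
  let sz : O → ℕ := fun o => Nat.card (MulAction.orbit (Multiplicative (ann y)) o.out)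
  have hidx : K.index = ∑ o, sz o := by
    rw [Subgroup.index, Nat.card_congr (MulAction.selfEquivSigmaOrbits (Multiplicative (ann y)) (SLι ⧸ K)),
      Nat.card_sigma]
  have hconst : ∀ α : SLι ⧸ K, W α = W (Quotient.mk'' α : O).out := by
    intro α
    obtain ⟨φ, hφ⟩ : (Quotient.mk'' α : O).out ∈ MulAction.orbit (Multiplicative (ann y)) α :=
      MulAction.orbitRel_apply.1 (Quotient.exact' (Quotient.out_eq' (Quotient.mk'' α : O)))
    show perpPart ψ (S α) = perpPart ψ (S _)
    rw [← hφ, hS]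
  let fcnt : (ι → F) → ℕ := fun w => (Finset.univ.filter fun o => w ∈ WO o).card
  -- invariance
  have hstab : ∀ g : SLι, g.1 *ᵥ y = y → ∀ α w, g.1 *ᵥ w ∈ W (g • α) ↔ w ∈ W α := by
    intro g hg α w
    have hgi : (g⁻¹ : SLι).1 *ᵥ y = y := by
      conv_lhs => rw [← hg]
      rw [mulVec_mulVec, ← Matrix.SpecialLinearGroup.coe_mul, inv_mul_cancel, Matrix.SpecialLinearGroup.coe_one,
        one_mulVec]
    have key : ∀ (v : ι → F) (h : v ⬝ᵥ y = 0), (v ᵥ* (g⁻¹ : SLι).1) ∈ S (g • α) ↔ v ∈ S α := by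
      intro v h
      have h' : (v ᵥ* (g⁻¹ : SLι).1) ⬝ᵥ y = 0 := by rw [← dotProduct_mulVec, hgi, h]
      have e : X y (v ᵥ* (g⁻¹ : SLι).1) h' = g * X y v h * g⁻¹ := by
        rw [conj_X g h]; exact X_ext _ _ hg.symm rfl
      constructor
      · intro hm
        obtain ⟨h0, h2⟩ := hm
        refine ⟨h, smul_left_cancel g ?_⟩
        rwa [e, ← mul_smul, inv_mul_cancel_right, mul_smul] at h2
      · intro hm
        obtain ⟨h0, h2⟩ := hm
        exact ⟨h', by rw [e, ← mul_smul, inv_mul_cancel_right, mul_smul, h2]⟩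
    constructor
    · intro hw φ hφ
      have := hw _ ((key φ hφ.1).2 hφ)
      rwa [← dotProduct_mulVec, mulVec_mulVec, ← Matrix.SpecialLinearGroup.coe_mul, inv_mul_cancel,
        Matrix.SpecialLinearGroup.coe_one, one_mulVec] at this
    · intro hw φ hφ
      have h1 : (φ ᵥ* g.1) ⬝ᵥ y = 0 := by rw [← dotProduct_mulVec, hg, hφ.1]
      have h2 : φ ᵥ* g.1 ∈ S α := (key _ h1).1 (by
        rwa [vecMul_vecMul, ← Matrix.SpecialLinearGroup.coe_mul, mul_inv_cancel, Matrix.SpecialLinearGroup.coe_one,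
          vecMul_one])
      have := hw _ h2
      rwa [← dotProduct_mulVec] at this
  have hperm : ∀ g : SLι, g.1 *ᵥ y = y → ∃ e : O ≃ O, ∀ o w, g.1 *ᵥ w ∈ WO (e o) ↔ w ∈ WO o := by
    intro g hg
    have hresp : ∀ h : SLι, h.1 *ᵥ y = y → ∀ a b : SLι ⧸ K, MulAction.orbitRel (Multiplicative (ann y)) _ a b →
        MulAction.orbitRel (Multiplicative (ann y)) _ (h • a) (h • b) := by
      intro h hh a b hab
      rw [MulAction.orbitRel_apply] at hab ⊢
      obtain ⟨φ, rfl⟩ := hab
      have h' : (φ.toAdd.1 ᵥ* (h⁻¹ : SLι).1) ⬝ᵥ y = 0 := by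
        have hiy : (h⁻¹ : SLι).1 *ᵥ y = y := by
          conv_lhs => rw [← hh]
          rw [mulVec_mulVec, ← Matrix.SpecialLinearGroup.coe_mul, inv_mul_cancel,
            Matrix.SpecialLinearGroup.coe_one, one_mulVec]
        rw [← dotProduct_mulVec, hiy]
        exact φ.toAdd.2
      refine ⟨Multiplicative.ofAdd ⟨_, h'⟩, ?_⟩
      show tHom y (Multiplicative.ofAdd ⟨_, h'⟩) • h • b = h • tHom y φ • b
      rw [show tHom y (Multiplicative.ofAdd ⟨_, h'⟩) = h * tHom y φ * h⁻¹ by
          show X y (φ.toAdd.1 ᵥ* (h⁻¹ : SLι).1) h' = h * X y φ.toAdd.1 φ.toAdd.2 * h⁻¹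
          rw [conj_X h φ.toAdd.2]
          exact X_ext _ _ hh.symm rfl,
        ← mul_smul, ← mul_smul, inv_mul_cancel_right]
    have hgi : (g⁻¹ : SLι).1 *ᵥ y = y := by
      conv_lhs => rw [← hg]
      rw [mulVec_mulVec, ← Matrix.SpecialLinearGroup.coe_mul, inv_mul_cancel, Matrix.SpecialLinearGroup.coe_one,
        one_mulVec]
    have hc : ∀ a b : SLι ⧸ K, MulAction.orbitRel (Multiplicative (ann y)) _ a b ↔
        MulAction.orbitRel (Multiplicative (ann y)) _ (MulAction.toPerm g a) (MulAction.toPerm g b) := fun a b =>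
      ⟨hresp g hg a b, fun h => by
        have := hresp g⁻¹ hgi _ _ h
        simpa using this⟩
    refine ⟨Quotient.congr (MulAction.toPerm g) hc, fun o w => ?_⟩
    have e : (Quotient.congr (MulAction.toPerm g) hc : O ≃ O) o = Quotient.mk'' (g • o.out) := by
      conv_lhs => rw [← Quotient.out_eq' o]
      rfl
    show g.1 *ᵥ w ∈ W (Quotient.out _) ↔ _
    rw [e, ← hconst]
    exact hstab g hg _ w
  have hf : ∀ g : SLι, g.1 *ᵥ y = y → ∀ w, fcnt (g.1 *ᵥ w) = fcnt w := by
    intro g hg w
    obtain ⟨e, he⟩ := hperm g hg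
    refine (Finset.card_bij (fun o _ => e o) ?_ ?_ ?_).symm
    · intro o ho
      simp only [Finset.mem_filter, Finset.mem_univ, true_and] at ho ⊢
      exact (he o w).2 ho
    · intro a _ b _ h; exact e.injective h
    · intro o ho
      simp only [Finset.mem_filter, Finset.mem_univ, true_and] at ho ⊢
      exact ⟨e.symm o, (he _ w).1 (by rwa [Equiv.apply_symm_apply]), e.apply_symm_apply o⟩
  -- a vector outside the line
  have hne : ∀ α, ∃ w ∈ W α, w ∉ L := by
    intro α
    by_contra hc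
    push Not at hc
    have h1 : Nat.card (W α) ≤ q := hLcard ▸
      Nat.card_le_card_of_injective (fun w : W α => (⟨w.1, hc w.1 w.2⟩ : L)) fun a b h =>
        Subtype.ext (congrArg (fun z : L => z.1) h)
    rw [hW] at h1
    have := horb α
    nlinarith
  obtain ⟨wz, -, hwz⟩ := hne ((1 : SLι) : SLι ⧸ K)
  have hfw : ∀ w, w ∉ L → fcnt w = fcnt wz := by
    intro w hw
    obtain ⟨g, hg1, hg2⟩ := exists_move hn hwz hw
    rw [← hg2, hf g hg1]
  -- double counting
  have hdc : ∑ o, (q * sz o - q) = fcnt wz * (q ^ (m + 1) - q) := by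
    have h1 : ∀ o, q * sz o - q = ((Finset.univ.filter fun w => w ∉ L).filter fun w => w ∈ WO o).card := by
      intro o
      rw [← hW, Finset.filter_filter]
      have e1 : (Finset.univ.filter fun w => w ∈ WO o).card = Nat.card (WO o) := by
        rw [Nat.card_eq_fintype_card, Fintype.card_subtype]
      have e2 : (Finset.univ.filter fun w => w ∈ L).card = q := by
        rw [← hLcard, Nat.card_eq_fintype_card, Fintype.card_subtype]
      rw [← e2, ← e1, ← Finset.card_sdiff_of_subset (fun w hw => by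
        simp only [Finset.mem_filter, Finset.mem_univ, true_and] at hw ⊢; exact hLW _ w hw)]
      congr 1
      ext w
      simp [and_comm]
    simp only [h1]
    have h2 := Finset.sum_card_bipartiteAbove_eq_sum_card_bipartiteBelow
      (r := fun (o : O) (w : ι → F) => w ∈ WO o) (s := Finset.univ) (t := Finset.univ.filter fun w => w ∉ L)
    simp only [Finset.bipartiteAbove, Finset.bipartiteBelow] at h2
    rw [h2, Finset.sum_congr rfl fun w hw => hfw w (Finset.mem_filter.1 hw).2, Finset.sum_const, smul_eq_mul,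
      mul_comm, Finset.filter_not, Finset.card_univ_diff]
    congr 1
    rw [Fintype.card_fun, ← Nat.card_eq_fintype_card, hm, ← Fintype.card_subtype, ← Nat.card_eq_fintype_card,
      hLcard]
  have hC : ∑ i ∈ Finset.range (m + 1), q ^ i = (∑ i ∈ Finset.range m, q ^ i) + q ^ m := Finset.sum_range_succ _ m
  have hC' : (q - 1) * (∑ i ∈ Finset.range m, q ^ i) + 1 = q ^ m := by
    have := geom_sum_mul_add (q - 1) m
    rw [Nat.sub_add_cancel hq.le] at this
    rw [mul_comm, this]
  set C' := ∑ i ∈ Finset.range m, q ^ i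
  set N := Fintype.card O with hN
  have hNpos : 0 < N := Fintype.card_pos_iff.2 ⟨Quotient.mk'' ((1 : SLι) : SLι ⧸ K)⟩
  have hsum : ∑ o, (q * sz o - q) = q * K.index - q * N := by
    rw [Finset.sum_tsub_distrib _ fun o _ => by have := horb o.out; show q ≤ q * sz o; nlinarith,
      Finset.sum_const, Finset.card_univ, smul_eq_mul, hidx, Finset.mul_sum, mul_comm q]
  have hNle : N ≤ K.index := by
    rw [hidx, hN, Fintype.card_eq_sum_ones]
    exact Finset.sum_le_sum fun o _ => (horb o.out).le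
  have hq2 : K.index = fcnt wz * (q ^ m - 1) + N := by
    have h1 : q * (K.index - N) = q * (fcnt wz * (q ^ m - 1)) := by
      rw [Nat.mul_sub, ← hsum, hdc, pow_succ', ← Nat.mul_sub_one]
      ring
    have := Nat.eq_of_mul_eq_mul_left (by omega) h1
    omega
  rw [hC] at hd ⊢
  have hC1 : C' + 1 ≤ q ^ m := by
    have : C' ≤ (q - 1) * C' := Nat.le_mul_of_pos_left _ (by omega)
    omega
  have hf1 : fcnt wz = 1 := by
    have hpos : 0 < fcnt wz := by
      obtain ⟨w, hw, hwL⟩ := hne ((1 : SLι) : SLι ⧸ K)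
      rw [← hfw w hwL]
      rw [hconst] at hw
      exact Finset.card_pos.2 ⟨_, Finset.mem_filter.2 ⟨Finset.mem_univ _, hw⟩⟩
    by_contra h1
    have : 2 * (q ^ m - 1) ≤ fcnt wz * (q ^ m - 1) := Nat.mul_le_mul_right _ (by omega)
    omega
  -- the shape of each part
  have huniq : ∀ o o' w, w ∉ L → w ∈ WO o → w ∈ WO o' → o = o' := by
    intro o o' w hw h h'
    have hc : fcnt w = 1 := by rw [hfw w hw, hf1]
    exact Finset.card_le_one.1 hc.le o (Finset.mem_filter.2 ⟨Finset.mem_univ _, h⟩) o'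
      (Finset.mem_filter.2 ⟨Finset.mem_univ _, h'⟩)
  have hinv : ∀ o w0, w0 ∈ WO o → w0 ∉ L → ∀ g : SLι, g.1 *ᵥ y = y → g.1 *ᵥ w0 = w0 → ∀ w ∈ WO o,
      g.1 *ᵥ w ∈ WO o := by
    intro o w0 h0 h0L g hg1 hg2 w hw
    obtain ⟨e, he⟩ := hperm g hg1
    have h1 := (he o w0).2 h0
    rw [hg2] at h1
    have h2 : e o = o := huniq _ _ w0 h0L h1 h0
    exact h2 ▸ (he o w).2 hw
  have hall : ∀ o w0 w, w0 ∈ WO o → w0 ∉ L → w ∈ WO o → w ∉ Submodule.span F ({y, w0} : Set (ι → F)) →
      ∀ x, x ∈ WO o := by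
    intro o w0 w h0 h0L hw hw2
    have step : ∀ a b : ι → F, a ∈ WO o → a ∉ L → b ∈ WO o → ∀ u, b ∉ Submodule.span F ({y, a, u} : Set (ι → F)) →
        u ∈ WO o := by
      intro a b ha haL hb u hu
      obtain ⟨φ, hφ, hφb⟩ := exists_functional _ hu
      have h1 := hinv o a ha haL (X u φ (hφ u (Submodule.subset_span (by simp))))
        (by rw [X_mulVec, hφ y (Submodule.subset_span (by simp)), zero_smul, add_zero])
        (by rw [X_mulVec, hφ a (Submodule.subset_span (by simp)), zero_smul, add_zero]) b hb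
      rw [X_mulVec, hφb, one_smul] at h1
      simpa using sub_mem h1 hb
    have hwL : w ∉ L := fun h => hw2 (Submodule.span_mono (by simp) h)
    have hw0' : w0 ∉ Submodule.span F ({y, w} : Set (ι → F)) := by
      intro h
      obtain ⟨a, b, e⟩ := Submodule.mem_span_pair.1 h
      rcases eq_or_ne b 0 with rfl | hb
      · exact h0L (Submodule.mem_span_singleton.2 ⟨a, by simpa using e⟩)
      · apply hw2
        refine Submodule.mem_span_pair.2 ⟨-(b⁻¹ * a), b⁻¹, ?_⟩
        rw [← e, smul_add, smul_smul, smul_smul, inv_mul_cancel₀ hb]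
        module
    intro x
    by_cases hx : x ∈ Submodule.span F ({y, w0, w} : Set (ι → F))
    · obtain ⟨a, z, hz, rfl⟩ := Submodule.mem_span_insert.1 hx
      obtain ⟨b, c, rfl⟩ := Submodule.mem_span_pair.1 hz
      have hsp : ∀ r s t : ι → F, r ∈ Submodule.span F ({s, t} : Set (ι → F)) →
          Submodule.span F ({s, t, r} : Set (ι → F)) ≤ Submodule.span F ({s, t} : Set (ι → F)) := by
        intro r s t hr
        rw [Submodule.span_le]
        rintro z (rfl | rfl | rfl)
        · exact Submodule.subset_span (by simp)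
        · exact Submodule.subset_span (by simp)
        · exact hr
      have hb : b • w0 ∈ WO o := step w0 w h0 h0L hw _ fun h => hw2 (hsp _ _ _ (Submodule.smul_mem _ _
        (Submodule.subset_span (by simp))) h)
      have hc : c • w ∈ WO o := step w w0 hw hwL h0 _ fun h => hw0' (hsp _ _ _ (Submodule.smul_mem _ _
        (Submodule.subset_span (by simp))) h)
      exact add_mem (hLW _ _ (Submodule.mem_span_singleton.2 ⟨a, rfl⟩)) (add_mem hb hc)
    · refine step w0 w h0 h0L hw x fun h => hx ?_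
      rw [show ({y, w0, x} : Set (ι → F)) = insert x ({y, w0} : Set (ι → F)) by
        ext z; simp; tauto] at h
      obtain ⟨a, z, hz, e⟩ := Submodule.mem_span_insert.1 h
      rcases eq_or_ne a 0 with rfl | ha
      · exact absurd (by rw [e, zero_smul, zero_add]; exact hz) hw2
      · have hx2 : x = a⁻¹ • (w - z) := by rw [e, add_sub_cancel_right, smul_smul, inv_mul_cancel₀ ha, one_smul]
        rw [hx2]
        exact Submodule.smul_mem _ _ (sub_mem (Submodule.subset_span (by simp))
          (Submodule.span_mono (by intro z; simp; tauto) hz))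
  set o1 : O := Quotient.mk'' ((1 : SLι) : SLι ⧸ K) with ho1
  have hWS : ∀ φ, TV K y φ ↔ φ ∈ S ((1 : SLι) : SLι ⧸ K) := by
    intro φ
    refine ⟨fun h => ⟨h.1, ?_⟩, fun ⟨h, h'⟩ => (tv_iff h).2 ?_⟩
    · rw [MulAction.Quotient.smul_coe, eq_comm, QuotientGroup.eq]
      simpa using (tv_iff h.1).1 h
    · rw [MulAction.Quotient.smul_coe, eq_comm, QuotientGroup.eq] at h'
      simpa using h'
  by_cases hwhole : ∃ o, ∀ x, x ∈ WO o
  · left
    obtain ⟨o, ho⟩ := hwhole
    have hsub : ∀ o', o' = o := by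
      intro o'
      obtain ⟨w, hw, hwL⟩ := hne o'.out
      exact huniq _ _ w hwL hw (ho w)
    have hN1 : N = 1 := le_antisymm (Fintype.card_le_one_iff.2 fun a b => (hsub a).trans (hsub b).symm) hNpos
    have hidxv : K.index = q ^ m := by
      rw [hq2, hf1, hN1, one_mul]
      have := Nat.one_le_pow m q (by omega)
      omega
    refine ⟨hidxv, fun φ hφ => ?_⟩
    have h1 : Nat.card (W ((1 : SLι) : SLι ⧸ K)) = q ^ (m + 1) := by
      rw [hconst, ← hm, hqdef, Nat.card_eq_fintype_card (α := F), ← Fintype.card_fun,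
        ← Nat.card_eq_fintype_card]
      exact Nat.card_congr (Equiv.subtypeUnivEquiv fun x => by
        show x ∈ WO o1
        rw [show o1 = o from hsub o1]; exact ho x)
    have h2 := card_perp hψ (S ((1 : SLι) : SLι ⧸ K))
    rw [hm] at h2
    change Nat.card _ * Nat.card (W _) = _ at h2
    rw [h1] at h2
    have h3 : Nat.card (S ((1 : SLι) : SLι ⧸ K)) = 1 :=
      Nat.eq_of_mul_eq_mul_right (pow_pos (show 0 < q by omega) (m + 1)) (by rw [one_mul]; exact h2)
    have := Finite.card_le_one_iff_subsingleton.1 h3.le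
    exact congrArg Subtype.val (Subsingleton.elim (⟨φ, (hWS φ).1 hφ⟩ : S ((1 : SLι) : SLι ⧸ K)) 0)
  · right
    push Not at hwhole
    have hspan : ∀ o w0, w0 ∈ WO o → w0 ∉ L → ∀ w ∈ WO o, w ∈ Submodule.span F ({y, w0} : Set (ι → F)) := by
      intro o w0 h0 h0L w hw
      by_contra hc
      obtain ⟨x, hx⟩ := hwhole o
      exact hx (hall o w0 w h0 h0L hw hc x)
    have hcardspan : ∀ w0, w0 ∉ L → Nat.card (Submodule.span F ({y, w0} : Set (ι → F))) = q ^ 2 := by
      intro w0 h0
      rw [Module.natCard_eq_pow_finrank (K := F) (V := Submodule.span F ({y, w0} : Set (ι → F)))]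
      congr 1
      have hli : LinearIndependent F ![y, w0] := (LinearIndependent.pair_iff' hy).2 fun a ha =>
        h0 (Submodule.mem_span_singleton.2 ⟨a, ha⟩)
      have := finrank_span_eq_card hli
      rwa [show Set.range ![y, w0] = ({y, w0} : Set (ι → F)) by simp [Set.pair_comm], Fintype.card_fin] at this
    have hsz : ∀ o, sz o ≤ q := by
      intro o
      obtain ⟨w0, h0, h0L⟩ := hne o.out
      have h1 : Nat.card (W o.out) ≤ q ^ 2 := hcardspan w0 h0L ▸
        Nat.card_le_card_of_injective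
          (fun w : W o.out => (⟨w.1, hspan o w0 h0 h0L w.1 w.2⟩ : Submodule.span F ({y, w0} : Set (ι → F))))
          fun a b h => Subtype.ext (congrArg (fun z : Submodule.span F ({y, w0} : Set (ι → F)) => z.1) h)
      rw [hW, pow_two] at h1
      exact Nat.le_of_mul_le_mul_left h1 (by omega)
    have hle : K.index ≤ q * N := by
      rw [hidx]
      calc ∑ o, sz o ≤ ∑ _o : O, q := Finset.sum_le_sum fun o _ => hsz o
        _ = q * N := by rw [Finset.sum_const, Finset.card_univ, smul_eq_mul, mul_comm]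
    have hN' : N = C' := by
      have h1 : C' ≤ N := by
        by_contra hlt
        push Not at hlt
        have h2 : (q - 1) * (N + 1) ≤ (q - 1) * C' := Nat.mul_le_mul_left _ hlt
        have h3 : q * N = (q - 1) * N + N := by
          rw [Nat.sub_one_mul, Nat.sub_add_cancel (Nat.le_mul_of_pos_left _ (by omega))]
        rw [Nat.mul_succ] at h2
        rw [hq2, hf1, one_mul] at hle
        omega
      rw [hq2, hf1, one_mul] at hd
      omega
    have hidx2 : K.index + 1 = C' + q ^ m := by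
      rw [hq2, hf1, hN', one_mul]
      omega
    refine ⟨hidx2, ?_⟩
    have heq : sz o1 = q := by
      by_contra hne'
      have hlt : sz o1 < q := lt_of_le_of_ne (hsz o1) hne'
      have h1 : K.index < q * N := by
        rw [hidx]
        calc ∑ o, sz o < ∑ _o : O, q :=
              Finset.sum_lt_sum (fun o _ => hsz o) ⟨o1, Finset.mem_univ _, hlt⟩
          _ = q * N := by rw [Finset.sum_const, Finset.card_univ, smul_eq_mul, mul_comm]
      have h3 : q * N = (q - 1) * N + N := by
        rw [Nat.sub_one_mul, Nat.sub_add_cancel (Nat.le_mul_of_pos_left _ (by omega))]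
      rw [hN'] at h1 h3
      omega
    obtain ⟨w0, h0, h0L⟩ := hne o1.out
    refine ⟨w0, h0L, fun φ hφy => ?_⟩
    have hWcard : Nat.card (W ((1 : SLι) : SLι ⧸ K)) = q ^ 2 := by
      rw [hconst, hW, pow_two]; exact congrArg (q * ·) heq
    have hWset : ∀ w, w ∈ W ((1 : SLι) : SLι ⧸ K) ↔ w ∈ Submodule.span F ({y, w0} : Set (ι → F)) := by
      intro w
      rw [hconst]
      refine ⟨fun hw => hspan o1 w0 h0 h0L w hw, fun hw => ?_⟩
      have hsub : (W o1.out).carrier ⊆ (Submodule.span F ({y, w0} : Set (ι → F)) : Set (ι → F)) :=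
        fun v hv => hspan o1 w0 h0 h0L v hv
      have : (W o1.out).carrier = (Submodule.span F ({y, w0} : Set (ι → F)) : Set (ι → F)) := by
        refine Set.eq_of_subset_of_ncard_le hsub (le_of_eq ?_) (Set.toFinite _)
        rw [← Nat.card_coe_set_eq, ← Nat.card_coe_set_eq]
        show Nat.card (Submodule.span F ({y, w0} : Set (ι → F))) = Nat.card (W o1.out)
        rw [hcardspan w0 h0L, ← hWcard, hconst]
      show w ∈ (W o1.out).carrier
      rw [this]
      exact hw
    -- the fixing part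
    let S' : AddSubgroup (ι → F) := (ann y ⊓ ann w0).toAddSubgroup
    have hSS : S ((1 : SLι) : SLι ⧸ K) ≤ S' := by
      intro v hv
      refine ⟨hv.1, ?_⟩
      show v ⬝ᵥ w0 = 0
      by_contra hv0
      obtain ⟨a, ha⟩ := AddChar.ne_one_iff.1 hψ
      apply ha
      have := (hWset ((a / (v ⬝ᵥ w0)) • w0)).2 (Submodule.smul_mem _ _ (Submodule.subset_span (by simp))) v hv
      rwa [dotProduct_smul, smul_eq_mul, div_mul_cancel₀ _ hv0] at this
    have hW' : ∀ w, w ∈ Submodule.span F ({y, w0} : Set (ι → F)) → w ∈ perpPart ψ S' := by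
      intro w hw v hv
      obtain ⟨a, b, rfl⟩ := Submodule.mem_span_pair.1 hw
      rw [dotProduct_add, dotProduct_smul, dotProduct_smul, show v ⬝ᵥ y = 0 from hv.1, show v ⬝ᵥ w0 = 0 from hv.2,
        smul_zero, smul_zero, add_zero, AddChar.map_zero_eq_one]
    have hSeq : S' = S ((1 : SLι) : SLι ⧸ K) := by
      symm
      refine AddSubgroup.eq_of_le_of_card_ge hSS ?_
      have h1 := card_perp hψ S'
      have h2 := card_perp hψ (S ((1 : SLι) : SLι ⧸ K))
      change Nat.card _ * Nat.card (W _) = _ at h2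
      rw [hWcard, ← h1] at h2
      have h3 : q ^ 2 ≤ Nat.card (perpPart ψ S') := hcardspan w0 h0L ▸
        Nat.card_le_card_of_injective (fun w : Submodule.span F ({y, w0} : Set (ι → F)) =>
          (⟨w.1, hW' w.1 w.2⟩ : perpPart ψ S')) fun a b h => Subtype.ext (congrArg (fun z : perpPart ψ S' => z.1) h)
      have h4 := Nat.mul_le_mul_left (Nat.card S') h3
      rw [← h2] at h4
      exact Nat.le_of_mul_le_mul_right h4 (pow_pos (show 0 < q by omega) 2)
    rw [hWS, ← hSeq]
    exact ⟨fun h => h.2, fun h => ⟨hφy, h⟩⟩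

end Cfsg.Agent.MinIndex
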